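/- The quaternion subgroup and the non-split tori of `SL₂(3^m)`, `m` odd. -/
import Cfsg.Agent.INV.R2.SwapP2
import Cfsg.Agent.S0811

set_option autoImplicit false
set_option linter.unusedSimpArgs false
set_option linter.unusedSectionVars false
set_option linter.unnecessarySeqFocus false

namespace CL.Hay

open Subgroup CL.ABG CL.R2
open scoped MatrixGroups

theorem eq_one_of_pow_pow {G : Type*} [Group G] {H : Subgroup G} {p : ℕ} (h : ∀ y ∈ H, y ^ p = 1 → y = 1) (k : ℕ) :
    ∀ y ∈ H, y ^ p ^ k = 1 → y = 1 := by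
  induction k with
  | zero => simp
  | succ k ih => exact fun y hy e => h y hy (ih _ (H.pow_mem hy p) (by rw [← pow_mul, ← pow_succ', e]))

variable {F : Type*} [Field F]

theorem nn_eq : (nn : SL(2, F)) = mkS 0 1 (-1) 0 (by ring) := rfl

theorem comm_nn {s : SL(2, F)} (h : s * nn = nn * s) : ∃ a b, ∃ e : a * a - b * -b = 1, s = mkS a b (-b) a e := by
  obtain ⟨a, b, c, d, hd, rfl⟩ := exists_mkS s
  simp only [nn_eq, mkS_mul, mkS_inj] at h
  obtain rfl : c = -b := by linear_combination -h.1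
  obtain rfl : d = a := by linear_combination -h.2.1
  exact ⟨_, _, hd, rfl⟩

theorem center_sl2 {s : SL(2, F)} (h : s ∈ center SL(2, F)) : s = 1 ∨ s = -1 := by
  obtain ⟨a, b, e, rfl⟩ := comm_nn (mem_center_iff.1 h nn).symm
  have := mem_center_iff.1 h (up 1)
  simp only [up, mkS_mul, mkS_inj] at this
  obtain rfl : b = 0 := by linear_combination -this.1
  simp only [one_eq_mkS, mkS_neg, mkS_inj]
  rcases mul_self_eq_one_iff.1 (show a * a = 1 by linear_combination e) with rfl | rfl <;> simp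

theorem sq_one_sl2 (h2 : (2 : F) ≠ 0) {s : SL(2, F)} (h : s * s = 1) : s = 1 ∨ s = -1 := by
  obtain ⟨p, q, r, s, hx, rfl⟩ := exists_mkS s
  simp only [one_eq_mkS, mkS_neg, mkS_inj, mkS_mul] at h ⊢
  obtain ⟨e4, e5, e6, -⟩ := h
  have h3 : p + s ≠ 0 := fun e => h2 (by linear_combination p * e - e4 - hx)
  obtain rfl : q = 0 := mul_left_cancel₀ h3 (by linear_combination e5)
  obtain rfl : r = 0 := mul_left_cancel₀ h3 (by linear_combination e6)
  obtain rfl : s = p := by linear_combination p * hx - s * e4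
  rcases mul_self_eq_one_iff.1 (show s * s = 1 by linear_combination e4) with rfl | rfl <;> simp

variable [CharP F 3]

theorem th0 : (3 : F) = 0 := CharP.cast_eq_zero F 3
theorem tw0 : (2 : F) ≠ 0 := fun e => one_ne_zero (α := F) (by linear_combination th0 (F := F) - e)

/-- a second generator of the quaternion group -/
def jj : SL(2, F) := up 1 * nn * (up 1)⁻¹

theorem jj_eq : (jj : SL(2, F)) = mkS (-1) (-1) (-1) 1 (by linear_combination -th0 (F := F)) := by
  simp only [jj, up, nn_eq, mkS_mul, mkS_inv, mkS_inj]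
  exact ⟨by ring, by linear_combination th0 (F := F), by ring, by ring⟩

theorem jj_nn : (jj * nn : SL(2, F)) = -(nn * jj) := by simp [jj_eq, nn_eq, mkS_mul, mkS_neg, mkS_inj]

theorem comm_V {s : SL(2, F)} (h : s * nn = nn * s) (h' : s * jj = jj * s) : s = 1 ∨ s = -1 := by
  obtain ⟨a, b, e, rfl⟩ := comm_nn h
  simp only [jj_eq, mkS_mul, mkS_inj] at h'
  obtain rfl : b = 0 := mul_left_cancel₀ tw0 (by linear_combination -h'.1)
  simp only [one_eq_mkS, mkS_neg, mkS_inj]
  rcases mul_self_eq_one_iff.1 (show a * a = 1 by linear_combination e) with rfl | rfl <;> simp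

theorem three_nn {s : SL(2, F)} (h : s * nn = nn * s) (k : ℕ) (e : s ^ 3 ^ k = 1) : s = 1 :=
  eq_one_of_pow_pow (H := centralizer {nn}) (fun y hy e => by
    have := trace_of_pow (p := 3) e
    obtain ⟨a, b, e', rfl⟩ := comm_nn (mem_centralizer_singleton_iff.1 hy)
    obtain rfl : a = 1 := mul_left_cancel₀ tw0 (by simp [coe_mkS] at this; linear_combination this)
    obtain rfl : b = 0 := mul_self_eq_zero.1 (by linear_combination e')
    simp [one_eq_mkS, mkS_inj]) k s (mem_centralizer_singleton_iff.2 h) e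

variable (ns : ∀ x : F, x * x ≠ -1)
include ns

theorem two_nn (k : ℕ) : ∀ s : SL(2, F), s * nn = nn * s → s ^ 2 ^ k = 1 → s = 1 ∨ s = -1 ∨ s = nn ∨ s = -nn := by
  induction k with
  | zero => intro s _ e; exact Or.inl (by simpa using e)
  | succ k ih =>
    intro s h e
    have := ih (s ^ 2) ((show Commute s nn from h).pow_left 2) (by rw [← pow_mul, ← pow_succ', e])
    clear e
    obtain ⟨a, b, e, rfl⟩ := comm_nn h
    simp only [sq, one_eq_mkS, neg_one_eq_mkS, nn_eq, mkS_mul, mkS_neg, mkS_inj] at this ⊢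
    rcases this with H | H | H | H
    · obtain rfl : b = 0 := mul_self_eq_zero.1 (mul_left_cancel₀ tw0 (by linear_combination e - H.1))
      rcases mul_self_eq_one_iff.1 (show a * a = 1 by linear_combination e) with rfl | rfl <;> simp
    · obtain rfl : a = 0 := mul_self_eq_zero.1 (mul_left_cancel₀ tw0 (by linear_combination e + H.1))
      rcases mul_self_eq_one_iff.1 (show b * b = 1 by linear_combination e) with rfl | rfl <;> simp
    all_goals exact (ns a (by linear_combination -e - H.1 + (a * a) * th0 (F := F))).elim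

theorem conj_nn (hs : ∀ x : F, IsSquare x ∨ IsSquare (-x)) {s : SL(2, F)} (h : s * s = -1) :
    ∃ g, g * s * g⁻¹ = nn ∨ g * s * g⁻¹ = -nn := by
  obtain ⟨a, b, c, d, hd, rfl⟩ := exists_mkS s
  simp only [neg_one_eq_mkS, mkS_mul, mkS_inj] at h
  have hc : c ≠ 0 := by rintro rfl; exact ns a (by linear_combination h.1)
  obtain rfl : d = -a := mul_left_cancel₀ hc (by linear_combination h.2.2.1)
  simp only [mul_inv_eq_iff_eq_mul]
  rcases hs c with ⟨r, rfl⟩ | ⟨r, hr⟩
  · have hr : r ≠ 0 := left_ne_zero_of_mul hc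
    refine ⟨mkS r (-a / r) 0 r⁻¹ (by field_simp; ring), Or.inr ?_⟩
    simp only [nn_eq, mkS_mul, mkS_neg, mkS_inj]
    refine ⟨?_, ?_, ?_, ?_⟩ <;> field_simp
    all_goals first | ring1 | linear_combination -hd
  · obtain rfl : c = -(r * r) := by linear_combination -hr
    have hr : r ≠ 0 := left_ne_zero_of_mul (neg_ne_zero.1 hc)
    refine ⟨mkS r (a / r) 0 r⁻¹ (by field_simp; ring), Or.inl ?_⟩
    simp only [nn_eq, mkS_mul, mkS_neg, mkS_inj]
    refine ⟨?_, ?_, ?_, ?_⟩ <;> field_simp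
    all_goals first | ring1 | linear_combination hd

theorem gen_tori [Finite F] (hs : ∀ x : F, IsSquare x ∨ IsSquare (-x)) (h9 : 9 < Nat.card F) (h4 : Nat.card F % 4 = 3)
    {W : Subgroup SL(2, F)} (h1 : ∀ s, s * nn = nn * s → s ∈ W) (h2 : ∀ s, s * jj = jj * s → s ∈ W) (s : SL(2, F)) :
    s ∈ W := by
  have := Fintype.ofFinite F
  obtain ⟨H, hH, ⟨e⟩⟩ := Cfsg.Agent.S0811.result (F := F) (q := Nat.card F) Nat.card_eq_fintype_card.symm
    (by simp only [Finset.mem_insert, Finset.mem_singleton]; omega)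
  obtain ⟨k, hk⟩ : ∃ k, Nat.card F = 4 * k + 3 := ⟨Nat.card F / 4, by omega⟩
  rw [hk, Nat.gcd_eq_left (by omega), show (4 * k + 3 + 1) / 2 = 2 * (k + 1) by omega] at e
  have hz : ((k + 1 : ℕ) : ZMod (2 * (k + 1))) + (k + 1 : ℕ) = 0 := by
    rw [← Nat.cast_add, ← two_mul, ZMod.natCast_self]
  obtain ⟨⟨c, hc⟩, ec⟩ := e.surjective (DihedralGroup.r (k + 1 : ℕ))
  obtain ⟨i, rfl⟩ := QuotientGroup.mk_surjective c
  have c1 : ∀ y ∈ H, y * i = i * y := fun y hy => congrArg Subtype.val (e.injective (a₁ := ⟨y, hy⟩ * ⟨_, hc⟩)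
    (a₂ := ⟨_, hc⟩ * ⟨y, hy⟩) (by
      rw [map_mul, map_mul, ec]
      rcases e ⟨y, hy⟩ with a | a
      · simp [add_comm]
      · simp only [DihedralGroup.sr_mul_r, DihedralGroup.r_mul_sr, DihedralGroup.sr.injEq]; linear_combination hz))
  have c2 : (i : PSL(2, F)) ≠ 1 := fun e1 => by
    have : DihedralGroup.r ((k + 1 : ℕ) : ZMod (2 * (k + 1))) = DihedralGroup.r 0 := by
      rw [← ec, show (⟨_, hc⟩ : H) = 1 from Subtype.ext e1, map_one]; rfl
    have := Nat.le_of_dvd k.succ_pos ((ZMod.natCast_eq_zero_iff _ _).1 (DihedralGroup.r.inj this))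
    omega
  have pm : ∀ {x y : SL(2, F)}, (x : PSL(2, F)) = y → x = y ∨ x = -y := fun e => by
    rcases center_sl2 (QuotientGroup.eq.1 e) with e | e
    · exact Or.inl (inv_mul_eq_one.1 e)
    · exact Or.inr (by rw [inv_mul_eq_iff_eq_mul.1 e]; simp)
  have ng : ∀ x : SL(2, F), ((-x : SL(2, F)) : PSL(2, F)) = x := fun x =>
    QuotientGroup.eq.2 (mem_center_iff.2 fun y => by simp [inv_neg])
  have c3 : i * i = -1 := (pm (x := i * i) (y := 1) (show (i : PSL(2, F)) * i = 1 from congrArg Subtype.val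
    (e.injective (a₁ := ⟨_, hc⟩ * ⟨_, hc⟩) (a₂ := 1) (by
      rw [map_mul, ec, DihedralGroup.r_mul_r, hz, map_one]; rfl)))).resolve_left fun e => by
    rcases sq_one_sl2 tw0 e with rfl | rfl
    · exact c2 rfl
    · exact c2 (ng 1)
  obtain ⟨g, hg⟩ := conj_nn ns hs c3
  have hg' : ((g * i * g⁻¹ : SL(2, F)) : PSL(2, F)) = (nn : SL(2, F)) := by
    rcases hg with e | e <;> rw [e]; exact ng _
  have hm : (-1 : SL(2, F)) ∈ W := h1 _ (by simp)
  have hn : ∀ {x}, x ∈ W → -x ∈ W := fun hx => by simpa using W.mul_mem hm hx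
  let W' := (W.comap (MulAut.conj g).toMonoidHom).map (QuotientGroup.mk' (center SL(2, F)))
  have l1 : H ≤ W' := fun y hy => by
    obtain ⟨y, rfl⟩ := QuotientGroup.mk_surjective y
    refine ⟨y, show g * y * g⁻¹ ∈ W from ?_, rfl⟩
    rcases pm (x := g * y * g⁻¹ * nn) (y := nn * (g * y * g⁻¹)) (by
      rw [QuotientGroup.mk_mul, QuotientGroup.mk_mul _ nn, ← hg']
      simp only [QuotientGroup.mk_mul, QuotientGroup.mk_inv, conj_mul, c1 _ hy]) with e | e
    · exact h1 _ e
    · exact (mul_mem_cancel_left (h2 jj rfl)).1 (h1 _ (by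
        rw [mul_assoc, e, mul_neg, ← mul_assoc, jj_nn, neg_mul, neg_neg, mul_assoc]))
  obtain ⟨u, u0, u1, u2⟩ : ∃ u : F, u ≠ 0 ∧ u ≠ 1 ∧ u ≠ -1 := by
    classical
    by_contra! h0
    have := Finset.card_le_card (show Finset.univ ⊆ ({0, 1, -1} : Finset F) from fun u _ => by
      simp only [Finset.mem_insert, Finset.mem_singleton]; tauto)
    have := Finset.card_le_three (a := (0 : F)) (b := 1) (c := -1)
    rw [Finset.card_univ, ← Nat.card_eq_fintype_card] at *
    omega
  have u3 : 1 + u * u ≠ 0 := fun e => ns u (by linear_combination e)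
  obtain ⟨x, y, x0, y0, hxy⟩ : ∃ x y : F, x ≠ 0 ∧ y ≠ 0 ∧ x * x + y * y = 1 :=
    ⟨(1 - u) * (1 + u) / (1 + u * u), 2 * u / (1 + u * u), div_ne_zero (mul_ne_zero (sub_ne_zero.2 u1.symm)
      fun e => u2 (by linear_combination e)) u3, div_ne_zero (mul_ne_zero tw0 u0) u3, by
      rw [div_mul_div_comm, div_mul_div_comm, ← add_div, div_eq_one_iff_eq (mul_ne_zero u3 u3)]; ring⟩
  let a : SL(2, F) := mkS (x - y) (-y) (-y) (x + y) (by linear_combination hxy - y * y * th0 (F := F))
  have l2 : W' = ⊤ := hH.2 _ (lt_of_le_of_ne l1 fun e => by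
    have := c1 ((g⁻¹ * a * g : SL(2, F)) : PSL(2, F)) (e ▸ ⟨_, show g * _ * g⁻¹ ∈ W by
      simpa [mul_assoc] using h2 a (by simp only [a, jj_eq, mkS_mul, mkS_inj]; refine ⟨?_, ?_, ?_, ?_⟩ <;> ring), rfl⟩)
    rcases pm (x := a * nn) (y := nn * a) (by
      rw [QuotientGroup.mk_mul, QuotientGroup.mk_mul _ nn, ← hg']
      simp only [QuotientGroup.mk_mul, QuotientGroup.mk_inv] at this ⊢
      calc _ = (g : PSL(2, F)) * ((g : PSL(2, F))⁻¹ * a * g * i) * (g : PSL(2, F))⁻¹ := by group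
        _ = _ := by rw [this]; group) with e | e <;> simp only [a, nn_eq, mkS_mul, mkS_neg, mkS_inj] at e
    · exact y0 (mul_left_cancel₀ tw0 (by linear_combination e.1))
    · exact x0 (mul_left_cancel₀ tw0 (by linear_combination e.2.1)))
  obtain ⟨w, hw, e⟩ : ((g⁻¹ * s * g : SL(2, F)) : PSL(2, F)) ∈ W' := l2 ▸ mem_top _
  rcases pm e with rfl | rfl
  · simpa [mul_assoc] using hw
  · simpa [mul_assoc] using hn hw

end CL.Hay
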