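/- The Jacobi group `q^(1+2) : SL2(q)` in coordinates. -/
import Cfsg.Agent.INV.R2.SwapP2
import Cfsg.Agent.INV.R2.Sp4M
import Cfsg.Agent.CLAS.SpCenter

set_option autoImplicit false
set_option linter.unusedSimpArgs false
set_option linter.unusedSectionVars false

namespace CL.Hay

open Subgroup CL.ABG CL.R2
open scoped MatrixGroups

@[ext] structure Jac (F : Type*) [Field F] where
  (a b c p q r s : F)
  h : p * s - q * r = 1

namespace Jac

variable {F : Type*} [Field F]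

instance : Mul (Jac F) := ⟨fun x y => ⟨x.a + y.a + x.b * (x.r * y.b + x.s * y.c) - x.c * (x.p * y.b + x.q * y.c),
  x.b + x.p * y.b + x.q * y.c, x.c + x.r * y.b + x.s * y.c, x.p * y.p + x.q * y.r, x.p * y.q + x.q * y.s,
  x.r * y.p + x.s * y.r, x.r * y.q + x.s * y.s, by
    linear_combination (y.p * y.s - y.q * y.r) * x.h + y.h⟩⟩
instance : One (Jac F) := ⟨⟨0, 0, 0, 1, 0, 0, 1, by ring⟩⟩
instance : Inv (Jac F) := ⟨fun x => ⟨-x.a, x.q * x.c - x.s * x.b, x.r * x.b - x.p * x.c, x.s, -x.q, -x.r, x.p,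
  by linear_combination x.h⟩⟩

variable (x y : Jac F)

@[simp] theorem mul_a : (x * y).a =
  x.a + y.a + x.b * (x.r * y.b + x.s * y.c) - x.c * (x.p * y.b + x.q * y.c) := rfl
@[simp] theorem mul_b : (x * y).b = x.b + x.p * y.b + x.q * y.c := rfl
@[simp] theorem mul_c : (x * y).c = x.c + x.r * y.b + x.s * y.c := rfl
@[simp] theorem mul_p : (x * y).p = x.p * y.p + x.q * y.r := rfl
@[simp] theorem mul_q : (x * y).q = x.p * y.q + x.q * y.s := rfl
@[simp] theorem mul_r : (x * y).r = x.r * y.p + x.s * y.r := rfl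
@[simp] theorem mul_s : (x * y).s = x.r * y.q + x.s * y.s := rfl
@[simp] theorem one_a : (1 : Jac F).a = 0 := rfl
@[simp] theorem one_b : (1 : Jac F).b = 0 := rfl
@[simp] theorem one_c : (1 : Jac F).c = 0 := rfl
@[simp] theorem one_p : (1 : Jac F).p = 1 := rfl
@[simp] theorem one_q : (1 : Jac F).q = 0 := rfl
@[simp] theorem one_r : (1 : Jac F).r = 0 := rfl
@[simp] theorem one_s : (1 : Jac F).s = 1 := rfl
@[simp] theorem inv_a : x⁻¹.a = -x.a := rfl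
@[simp] theorem inv_b : x⁻¹.b = x.q * x.c - x.s * x.b := rfl
@[simp] theorem inv_c : x⁻¹.c = x.r * x.b - x.p * x.c := rfl
@[simp] theorem inv_p : x⁻¹.p = x.s := rfl
@[simp] theorem inv_q : x⁻¹.q = -x.q := rfl
@[simp] theorem inv_r : x⁻¹.r = -x.r := rfl
@[simp] theorem inv_s : x⁻¹.s = x.p := rfl

instance : Group (Jac F) := Group.ofLeftAxioms
  (fun x y z => by
    ext <;> simp only [mul_a, mul_b, mul_c, mul_p, mul_q, mul_r, mul_s]
    · linear_combination (y.b * (y.r * z.b + y.s * z.c) - y.c * (y.p * z.b + y.q * z.c)) * x.h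
    all_goals ring)
  (fun x => by ext <;> simp)
  (fun x => by
    ext <;> simp only [mul_a, mul_b, mul_c, mul_p, mul_q, mul_r, mul_s, inv_a, inv_b, inv_c, inv_p, inv_q,
      inv_r, inv_s, one_a, one_b, one_c, one_p, one_q, one_r, one_s]
    all_goals first | ring1 | linear_combination x.h)

instance [Finite F] : Finite (Jac F) := Finite.of_injective
  (fun x => (x.a, x.b, x.c, x.p, x.q, x.r, x.s)) fun x y e => by
    simp only [Prod.mk.injEq] at e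
    exact Jac.ext e.1 e.2.1 e.2.2.1 e.2.2.2.1 e.2.2.2.2.1 e.2.2.2.2.2.1 e.2.2.2.2.2.2

end Jac

open Jac

variable {F : Type*} [Field F]

/-- the elements of the Sylow subgroup -/
@[simps] def pp (a b c d : F) : Jac F := ⟨a, b, c, 1, d, 0, 1, by ring⟩

/-- the Levi complement -/
@[simps] def ι : SL(2, F) →* Jac F where
  toFun g := ⟨0, 0, 0, g.1 0 0, g.1 0 1, g.1 1 0, g.1 1 1, det_entries g⟩
  map_one' := by ext <;> simp
  map_mul' g h := by ext <;> simp [Matrix.mul_apply, Fin.sum_univ_two]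

def pr : Jac F →* SL(2, F) where
  toFun x := mkS x.p x.q x.r x.s x.h
  map_one' := one_eq_mkS.symm
  map_mul' _ _ := (mkS_mul _ _).symm

theorem ι_mkS (a b c d : F) (h : a * d - b * c = 1) : ι (mkS a b c d h) = ⟨0, 0, 0, a, b, c, d, h⟩ := rfl

theorem pr_ι (g : SL(2, F)) : pr (ι g) = g := (eq_mkS g).symm

theorem ι_inj : Function.Injective (ι (F := F)) := Function.LeftInverse.injective pr_ι

theorem ι_up (d : F) : ι (up d) = pp 0 0 0 d := rfl

theorem eq_pp_ι (x : Jac F) : x = pp x.a x.b x.c 0 * ι (pr x) := by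
  ext <;> simp [pr, ι_mkS]

theorem pp_inj {a b c d a' b' c' d' : F} : pp a b c d = pp a' b' c' d' ↔ a = a' ∧ b = b' ∧ c = c' ∧ d = d' :=
  ⟨fun e => ⟨congrArg Jac.a e, congrArg Jac.b e, congrArg Jac.c e, congrArg Jac.q e⟩,
    by rintro ⟨rfl, rfl, rfl, rfl⟩; rfl⟩

theorem pp_mul (a b c d a' b' c' d' : F) : pp a b c d * pp a' b' c' d' =
    pp (a + a' + b * c' - c * (b' + d * c')) (b + b' + d * c') (c + c') (d + d') := by
  ext <;> simp <;> ring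

theorem pp_inv (a b c d : F) : (pp a b c d)⁻¹ = pp (-a) (d * c - b) (-c) (-d) := by ext <;> simp

theorem pp_zero : pp (0 : F) 0 0 0 = 1 := rfl

theorem z_comm (a : F) (x : Jac F) : x * pp a 0 0 0 = pp a 0 0 0 * x := by ext <;> simp [add_comm]

variable (F)

def sP : Subgroup (Jac F) where
  carrier := {x | ∃ a b c d, pp a b c d = x}
  mul_mem' := by rintro _ _ ⟨a, b, c, d, rfl⟩ ⟨a', b', c', d', rfl⟩; exact ⟨_, _, _, _, (pp_mul ..).symm⟩
  one_mem' := ⟨0, 0, 0, 0, rfl⟩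
  inv_mem' := by rintro _ ⟨a, b, c, d, rfl⟩; exact ⟨_, _, _, _, (pp_inv ..).symm⟩

def sM : Subgroup (Jac F) where
  carrier := {x | ∃ a b d, pp a b 0 d = x}
  mul_mem' := by
    rintro _ _ ⟨a, b, d, rfl⟩ ⟨a', b', d', rfl⟩; exact ⟨a + a', b + b', d + d', by simp [pp_mul]⟩
  one_mem' := ⟨0, 0, 0, rfl⟩
  inv_mem' := by rintro _ ⟨a, b, d, rfl⟩; exact ⟨-a, -b, -d, by simp [pp_inv]⟩

def sQ : Subgroup (Jac F) where
  carrier := {x | ∃ a b c, pp a b c 0 = x}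
  mul_mem' := by
    rintro _ _ ⟨a, b, c, rfl⟩ ⟨a', b', c', rfl⟩; exact ⟨_, _, _, by rw [pp_mul, add_zero]⟩
  one_mem' := ⟨0, 0, 0, rfl⟩
  inv_mem' := by rintro _ ⟨a, b, c, rfl⟩; exact ⟨_, _, _, by rw [pp_inv, neg_zero]⟩

def sZ : Subgroup (Jac F) where
  carrier := {x | ∃ a, pp a 0 0 0 = x}
  mul_mem' := by rintro _ _ ⟨a, rfl⟩ ⟨a', rfl⟩; exact ⟨a + a', by simp [pp_mul]⟩
  one_mem' := ⟨0, rfl⟩
  inv_mem' := by rintro _ ⟨a, rfl⟩; exact ⟨-a, by simp [pp_inv]⟩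

variable {F}

theorem mem_sP {x : Jac F} : x ∈ sP F ↔ x.p = 1 ∧ x.r = 0 ∧ x.s = 1 :=
  ⟨by rintro ⟨a, b, c, d, rfl⟩; simp, fun h => ⟨x.a, x.b, x.c, x.q, by ext <;> simp [h]⟩⟩

theorem mem_sM {x : Jac F} : x ∈ sM F ↔ x.c = 0 ∧ x.p = 1 ∧ x.r = 0 ∧ x.s = 1 :=
  ⟨by rintro ⟨a, b, d, rfl⟩; simp, fun h => ⟨x.a, x.b, x.q, by ext <;> simp [h]⟩⟩

theorem mem_sQ {x : Jac F} : x ∈ sQ F ↔ x.p = 1 ∧ x.q = 0 ∧ x.r = 0 ∧ x.s = 1 :=
  ⟨by rintro ⟨a, b, d, rfl⟩; simp, fun h => ⟨x.a, x.b, x.c, by ext <;> simp [h]⟩⟩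

theorem card_sP : Nat.card (sP F) = Nat.card F ^ 4 := by
  rw [← Nat.card_congr (Equiv.ofBijective (fun v : F × F × F × F => (⟨pp v.1 v.2.1 v.2.2.1 v.2.2.2,
    _, _, _, _, rfl⟩ : sP F)) ⟨fun v w e => by
      obtain ⟨h1, h2, h3, h4⟩ := pp_inj.1 (congrArg Subtype.val e)
      exact Prod.ext h1 (Prod.ext h2 (Prod.ext h3 h4)),
    by rintro ⟨_, a, b, c, d, rfl⟩; exact ⟨(a, b, c, d), rfl⟩⟩)]
  simp only [Nat.card_prod]; ring

theorem card_sM : Nat.card (sM F) = Nat.card F ^ 3 := by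
  rw [← Nat.card_congr (Equiv.ofBijective (fun v : F × F × F => (⟨pp v.1 v.2.1 0 v.2.2,
    _, _, _, rfl⟩ : sM F)) ⟨fun v w e => by
      obtain ⟨h1, h2, -, h4⟩ := pp_inj.1 (congrArg Subtype.val e)
      exact Prod.ext h1 (Prod.ext h2 h4),
    by rintro ⟨_, a, b, d, rfl⟩; exact ⟨(a, b, d), rfl⟩⟩)]
  simp only [Nat.card_prod]; ring

theorem card_sZ : Nat.card (sZ F) = Nat.card F :=
  (Nat.card_congr (Equiv.ofBijective (fun v : F => (⟨pp v 0 0 0, _, rfl⟩ : sZ F))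
    ⟨fun _ _ e => (pp_inj.1 (congrArg Subtype.val e)).1, by rintro ⟨_, a, rfl⟩; exact ⟨a, rfl⟩⟩)).symm

instance : (sQ F).Normal := ⟨fun x hx g => by
  obtain ⟨h1, h2, h3, h4⟩ := mem_sQ.1 hx
  refine mem_sQ.2 ⟨?_, ?_, ?_, ?_⟩ <;> simp [h1, h2, h3, h4]
  all_goals first | ring1 | linear_combination g.h⟩

theorem central (h2 : (2 : F) ≠ 0) {x : Jac F} (h : ∀ y ∈ sP F, y * x = x * y) (hx : x ∈ sP F) :
    x ∈ sZ F := by
  obtain ⟨a, b, c, d, rfl⟩ := hx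
  have e1 := h _ ⟨0, 0, 1, 0, rfl⟩
  have e2 := h _ ⟨0, 0, 0, 1, rfl⟩
  simp only [pp_mul, pp_inj] at e1 e2
  obtain rfl : d = 0 := by linear_combination -e1.2.1
  obtain rfl : c = 0 := by linear_combination e2.2.1
  obtain rfl : b = 0 := mul_left_cancel₀ h2 (by linear_combination -e1.1)
  exact ⟨a, rfl⟩

theorem cen_sM {x : Jac F} (h : ∀ y ∈ sM F, y * x = x * y) (h2 : (2 : F) ≠ 0) : x ∈ sM F := by
  have e1 := h _ ⟨0, 1, 0, rfl⟩
  have e2 := congrArg Jac.a e1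
  have e3 := congrArg Jac.b e1
  have e4 := congrArg Jac.c e1
  simp at e2 e3 e4
  have e5 : x.p = 1 := by linear_combination -e3
  refine mem_sM.2 ⟨mul_left_cancel₀ h2 ?_, e5, e4, by linear_combination x.h + x.q * e4 - x.s * e5⟩
  linear_combination e2 + x.b * e4 - x.c * e5

theorem le_sM [Finite F] (h2 : (2 : F) ≠ 0) {E : Subgroup (Jac F)} (hE : E ≤ sP F)
    (hc : ∀ x ∈ E, ∀ y ∈ E, x * y = y * x) (h : Nat.card F ^ 2 < Nat.card E) : E ≤ sM F := fun e he => by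
  obtain ⟨a, b, c, d, rfl⟩ := hE he
  by_contra h0
  have h1 : c ≠ 0 := by rintro rfl; exact h0 ⟨a, b, d, rfl⟩
  refine h.not_ge (sq (Nat.card F) ▸ Nat.card_prod F F ▸ Nat.card_le_card_of_injective
    (fun x : E => (x.1.a, x.1.c)) ?_)
  rintro ⟨x, hx⟩ ⟨y, hy⟩ e
  obtain ⟨a1, b1, c1, d1, rfl⟩ := hE hx
  obtain ⟨a2, b2, c2, d2, rfl⟩ := hE hy
  obtain ⟨rfl, rfl⟩ : a1 = a2 ∧ c1 = c2 := Prod.ext_iff.1 e
  have e1 := hc _ he _ hx
  have e2 := hc _ he _ hy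
  simp only [pp_mul, pp_inj] at e1 e2
  obtain rfl : d1 = d2 := mul_left_cancel₀ h1 (by linear_combination e2.2.1 - e1.2.1)
  obtain rfl : b1 = b2 := mul_left_cancel₀ (mul_ne_zero h2 h1) (by linear_combination e2.1 - e1.1)
  rfl

/-- the embedding into the symplectic group -/
def toSp : Jac F →* Matrix.symplecticGroup (Fin 2) F where
  toFun x := ⟨m4 1 (x.b * x.r - x.c * x.p) x.a (x.b * x.s - x.c * x.q) 0 x.p x.b x.q 0 0 1 0 0 x.r x.c x.s,
    m4_mem.2 ⟨by linear_combination -x.b * x.h, by ring, by linear_combination -x.c * x.h, by ring,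
      by linear_combination x.h, by ring⟩⟩
  map_one' := Subtype.ext (by simp [m4_one])
  map_mul' x y := Subtype.ext (by
    simp only [Submonoid.mk_mul_mk, m4_mul, m4_inj, mul_a, mul_b, mul_c, mul_p, mul_q, mul_r, mul_s]
    refine ⟨?_, ?_, ?_, ?_, ?_, ?_, ?_, ?_, ?_, ?_, ?_, ?_, ?_, ?_, ?_, ?_⟩
    all_goals first | ring1 | linear_combination (y.b * y.r - y.c * y.p) * x.h |
      linear_combination (y.b * y.s - y.c * y.q) * x.h)

end CL.Hay
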