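/- Hayden's hypothesis: the centralizer of each nontrivial central element of a Jacobi subgroup. -/
import Cfsg.Agent.REC.Hay.Jac
import Cfsg.Prelude.Def_Classical

set_option autoImplicit false
set_option linter.unusedSimpArgs false
set_option linter.unusedSectionVars false

namespace CL.Hay

open Subgroup CL.ABG CL.R2 Jac
open scoped MatrixGroups Pointwise

variable {F : Type*} [Field F] {G : Type*} [Group G]

structure Hy (φ : Jac F →* G) : Prop where
  inj : Function.Injective φ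
  cen : ∀ a : F, a ≠ 0 → ∀ g, g * φ (pp a 0 0 0) = φ (pp a 0 0 0) * g → ∃ x, φ x = g

/-- the conjugate frame -/
def cj (g : G) (φ : Jac F →* G) : Jac F →* G := (MulAut.conj g).toMonoidHom.comp φ

@[simp] theorem cj_apply (g : G) (φ : Jac F →* G) (x : Jac F) : cj g φ x = g * φ x * g⁻¹ := rfl

theorem Hy.conj {φ : Jac F →* G} (h : Hy φ) (g : G) : Hy (cj g φ) :=
  ⟨(MulAut.conj g).injective.comp h.inj, fun a ha k e => by
    obtain ⟨x, hx⟩ := h.cen a ha (g⁻¹ * k * g) (by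
      simp only [cj_apply] at e
      calc _ = g⁻¹ * (k * (g * φ (pp a 0 0 0) * g⁻¹)) * g := by group
        _ = _ := by rw [e]; group)
    exact ⟨x, by rw [cj_apply, hx]; group⟩⟩

/-- the standard frame in `PSp₄` -/
def stdF : Jac F →* Cfsg.PSp 2 F := (QuotientGroup.mk' _).comp toSp

theorem hy_std (h2 : (2 : F) ≠ 0) : Hy (stdF (F := F)) := by
  have hn : (1 : F) ≠ -1 := fun e => h2 (by linear_combination e)
  refine ⟨(injective_iff_map_eq_one _).2 fun x hx => ?_, fun a ha g e => ?_⟩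
  · rcases CL.SpCenter.mem_center_iff.1 ((QuotientGroup.eq_one_iff _).1 hx) with h | h
    · simp only [toSp, MonoidHom.coe_mk, OneHom.coe_mk, m4_one, m4_inj] at h
      ext <;> simp [h]
    · simp only [toSp, MonoidHom.coe_mk, OneHom.coe_mk, m4_one, m4_neg, m4_inj] at h
      exact (hn h.1).elim
  obtain ⟨g, rfl⟩ := QuotientGroup.mk_surjective g
  obtain ⟨c, hc, e⟩ := (QuotientGroup.mk'_eq_mk' _).1 (show QuotientGroup.mk' _ (g * toSp (pp a 0 0 0)) =
    QuotientGroup.mk' _ (toSp (pp a 0 0 0) * g) from e)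
  obtain ⟨g, hg⟩ := g
  obtain ⟨a00, a01, a02, a03, a10, a11, a12, a13, a20, a21, a22, a23, a30, a31, a32, a33, rfl⟩ :
    ∃ a00 a01 a02 a03 a10 a11 a12 a13 a20 a21 a22 a23 a30 a31 a32 a33, g =
      m4 a00 a01 a02 a03 a10 a11 a12 a13 a20 a21 a22 a23 a30 a31 a32 a33 := ⟨_, _, _, _, _, _, _, _, _, _, _, _,
        _, _, _, _, m4_eta g⟩
  obtain ⟨m1, m2, m3, m4', m5, m6⟩ := m4_mem.1 hg
  replace e := congrArg Subtype.val e
  have z2 : ∀ u : F, -u = u → u = 0 := fun u hu => mul_left_cancel₀ h2 (by linear_combination -hu)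
  have za : ∀ u : F, u * a = 0 → u = 0 := fun u hu => (mul_eq_zero.1 hu).resolve_right ha
  rcases CL.SpCenter.mem_center_iff.1 hc with h | h
  all_goals
    simp only [Submonoid.coe_mul, h, toSp, MonoidHom.coe_mk, OneHom.coe_mk, m4_one, m4_neg, m4_mul, m4_inj, pp_a,
      pp_b, pp_c, pp_p, pp_q, pp_r, pp_s] at e
    obtain ⟨e0, e1, e2, e3, e4, e5, e6, e7, e8, e9, e10, e11, e12, e13, e14, e15⟩ := e
  · obtain rfl := za a10 (by linear_combination e6)
    obtain rfl := za a20 (by linear_combination e10)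
    obtain rfl := za a30 (by linear_combination e14)
    obtain rfl := za a21 (by linear_combination -e1)
    obtain rfl := za a23 (by linear_combination -e3)
    obtain rfl : a00 = a22 := sub_eq_zero.1 (za _ (by linear_combination e2))
    rcases mul_self_eq_one_iff.1 (show a00 * a00 = 1 by linear_combination m2) with rfl | rfl
    · refine ⟨⟨a02, a12, a32, a11, a13, a31, a33, by linear_combination m5⟩, congrArg _ (Subtype.ext ?_)⟩
      simp only [toSp, MonoidHom.coe_mk, OneHom.coe_mk, m4_inj, true_and, and_true]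
      exact ⟨by linear_combination a31 * m1 - a11 * m3 + a01 * m5,
        by linear_combination a33 * m1 - a13 * m3 + a03 * m5⟩
    · refine ⟨⟨-a02, -a12, -a32, -a11, -a13, -a31, -a33, by linear_combination m5⟩, ?_⟩
      refine (QuotientGroup.mk'_eq_mk' _).2 ⟨⟨-1, by rw [m4_one, m4_neg, m4_mem]; simp⟩,
        CL.SpCenter.mem_center_iff.2 (Or.inr rfl), Subtype.ext ?_⟩
      simp only [Submonoid.coe_mul, toSp, MonoidHom.coe_mk, OneHom.coe_mk, m4_one, m4_neg, m4_mul, m4_inj]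
      refine ⟨?_, ?_, ?_, ?_, ?_, ?_, ?_, ?_, ?_, ?_, ?_, ?_, ?_, ?_, ?_, ?_⟩
      all_goals first | ring1 | linear_combination a31 * m1 - a11 * m3 + a01 * m5 |
        linear_combination a33 * m1 - a13 * m3 + a03 * m5
  · obtain rfl := z2 a10 (by linear_combination e4)
    obtain rfl := z2 a11 (by linear_combination e5)
    obtain rfl := z2 a13 (by linear_combination e7)
    obtain rfl := z2 a30 (by linear_combination e12)
    exact absurd m5 (by simp)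

section
variable {p : ℕ} [Fact p.Prime] [CharP F p]

theorem two_ne (hp : p ≠ 2) : (2 : F) ≠ 0 := fun e => hp <|
  (Nat.prime_dvd_prime_iff_eq Fact.out Nat.prime_two).1 ((CharP.cast_eq_zero_iff F p 2).1 (by exact_mod_cast e))

theorem odd_of_pow (hp : p ≠ 2) {H : Type*} [Group H] {x : H} {k : ℕ} (h : x ^ p ^ k = 1) : Odd (orderOf x) :=
  Odd.of_dvd_nat ((Fact.out : p.Prime).odd_of_ne_two hp).pow (orderOf_dvd_of_pow_eq_one h)

theorem eq_one_of_sq_odd {H : Type*} [Group H] {x : H} (ho : Odd (orderOf x)) (h : x * x = 1) : x = 1 :=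
  orderOf_eq_one_iff.1 ((Nat.dvd_prime Nat.prime_two).1 (orderOf_dvd_of_pow_eq_one (by rw [sq, h])) |>.resolve_right
    fun e => by rw [e] at ho; exact absurd ho (by decide))

/-- a `p`-element of the form `± up r` -/
theorem up_of_pow (hp : p ≠ 2) {s : SL(2, F)} {k : ℕ} (h : s ^ p ^ k = 1) {r : F} (e : s = up r ∨ s = -up r) :
    s = up r := e.resolve_right fun e => by
  obtain ⟨j, hj⟩ := ((Fact.out : p.Prime).odd_of_ne_two hp).pow (n := k)
  rw [e, neg_pow, hj, pow_succ, pow_mul, neg_one_sq, one_pow, one_mul, up_pow, neg_one_mul, ← up_zero] at h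
  exact up_ne_neg (two_ne hp) _ _ h.symm

theorem pp_pow_pow (a b c d : F) : pp a b c d ^ p ^ 3 = 1 := by
  have h0 : ∀ (n : ℕ) (a b c d : F), ∃ a' b', pp a b c d ^ n = pp a' b' (n * c) (n * d) := fun n a b c d => by
    induction n with
    | zero => exact ⟨0, 0, by simp [pp_zero]⟩
    | succ n ih => obtain ⟨a', b', e⟩ := ih; exact ⟨_, _, by rw [pow_succ, e, pp_mul]; congr 1 <;> push_cast <;> ring⟩
  have h1 : ∀ (n : ℕ) (a b : F), pp a b 0 0 ^ n = pp (n * a) (n * b) 0 0 := fun n a b => by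
    induction n with
    | zero => simp [pp_zero]
    | succ n ih => rw [pow_succ, ih, pp_mul]; congr 1 <;> push_cast <;> ring
  obtain ⟨a', b', e⟩ := h0 p a b c d
  rw [pow_succ', pow_mul, e, sq, pow_mul]
  simp [h1, pp_zero]

theorem sP_pgroup : IsPGroup p (sP F) := by
  rintro ⟨_, a, b, c, d, rfl⟩
  exact ⟨3, Subtype.ext (pp_pow_pow ..)⟩

theorem mem_sP_iff {x : Jac F} : x ∈ sP F ↔ ∃ r, pr x = up r :=
  ⟨by rintro ⟨a, b, c, d, rfl⟩; exact ⟨d, rfl⟩, by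
    rintro ⟨r, e⟩; obtain ⟨h1, -, h2, h3⟩ := (mkS_inj (h := x.h)).1 e; exact mem_sP.2 ⟨h1, h2, h3⟩⟩

theorem exists_central {S : Subgroup G} [Finite G] (hS : IsPGroup p S) {x : G} (hx : x ∈ S) (h1 : x ≠ 1) :
    ∃ y ∈ S, y ≠ 1 ∧ ∀ s ∈ S, s * y = y * s := by
  have : Nontrivial S := ⟨⟨x, hx⟩, 1, fun e => h1 (congrArg Subtype.val e)⟩
  have := hS.center_nontrivial
  obtain ⟨⟨y, hy⟩, h⟩ := exists_ne (1 : center S)
  exact ⟨y, y.2, fun e => h (Subtype.ext (Subtype.ext e)), fun s hs =>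
    congrArg Subtype.val (mem_center_iff.1 hy ⟨s, hs⟩)⟩

theorem le_sP [Finite F] (hp : p ≠ 2) {S : Subgroup (Jac F)} (hS : IsPGroup p S) {b : F} (hb : b ≠ 0)
    {x : Jac F} (hx : x ∈ S) (e : pr x = up b) : S ≤ sP F := by
  obtain ⟨_, ⟨y, hy, rfl⟩, h1, h⟩ := exists_central (hS.map pr) ⟨x, hx, rfl⟩ (e ▸ mt up_eq_one.1 hb)
  have key : ∀ s ∈ S, ∀ r ≠ 0, pr s * up r = up r * pr s → ∃ r', pr s = up r' := fun s hs r hr e => by
    obtain ⟨r', e'⟩ := eq_up_of_comm (two_ne hp) hr (Or.inl (mul_inv_eq_of_eq_mul e))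
    obtain ⟨k, hk⟩ := hS ⟨s, hs⟩
    exact ⟨r', up_of_pow hp (k := k) (by rw [← map_pow, show s ^ p ^ k = 1 from congrArg Subtype.val hk, map_one]) e'⟩
  obtain ⟨r, hr⟩ := key y hy b hb (e ▸ (h _ ⟨x, hx, rfl⟩).symm)
  exact fun s hs => mem_sP_iff.2 (key s hs r (fun e => h1 (by rw [hr, e, up_zero])) (hr ▸ h _ ⟨s, hs, rfl⟩))

variable {φ : Jac F →* G}

theorem Hy.ne (h : Hy φ) {a b c d : F} (h0 : ¬ (a = 0 ∧ b = 0 ∧ c = 0 ∧ d = 0)) : φ (pp a b c d) ≠ 1 :=
  fun e => h0 (pp_inj.1 (h.inj (e.trans (map_one φ).symm)))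

theorem Hy.comm_iff (h : Hy φ) {x y : Jac F} : φ x * φ y = φ y * φ x ↔ x * y = y * x := by
  rw [← map_mul, ← map_mul, h.inj.eq_iff]

theorem Hy.cen_eq (h : Hy φ) {a : F} (ha : a ≠ 0) : centralizer {φ (pp a 0 0 0)} = φ.range :=
  le_antisymm (fun g hg => h.cen a ha g (mem_centralizer_singleton_iff.1 hg)) <| by
    rintro _ ⟨x, rfl⟩; exact mem_centralizer_singleton_iff.2 (h.comm_iff.2 (z_comm a x))

variable [Finite F] [Finite G]

theorem Hy.le_P (h : Hy φ) (hp : p ≠ 2) {S : Subgroup G} (hS : IsPGroup p S) (hP : (sP F).map φ ≤ S) :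
    S ≤ (sP F).map φ := by
  obtain ⟨y, hy, h1, hc⟩ := exists_central hS (hP ⟨_, ⟨1, 0, 0, 0, rfl⟩, rfl⟩) (h.ne (by simp))
  obtain ⟨y, rfl⟩ := h.cen 1 one_ne_zero y (hc _ (hP ⟨_, ⟨1, 0, 0, 0, rfl⟩, rfl⟩)).symm
  have h3 : ∀ x ∈ sP F, x * y = y * x := fun x hx => h.comm_iff.1 (hc _ (hP ⟨x, hx, rfl⟩))
  obtain ⟨a, b, d, rfl⟩ := cen_sM (fun x ⟨a, b, d, e⟩ => h3 x ⟨a, b, 0, d, e⟩) (two_ne hp)
  obtain ⟨a, e⟩ := central (two_ne hp) h3 ⟨_, _, _, _, rfl⟩
  rw [← e] at hc h1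
  intro s hs
  obtain ⟨x, rfl⟩ := h.cen a (by rintro rfl; exact h1 (map_one φ)) s (hc s hs)
  exact ⟨x, le_sP hp (hS.comap_of_injective φ h.inj) one_ne_zero (x := pp 0 0 0 1)
    (hP ⟨_, ⟨0, 0, 0, 1, rfl⟩, rfl⟩) rfl hs, rfl⟩

/-- the standard Sylow subgroup -/
def Hy.syl (h : Hy φ) (hp : p ≠ 2) : Sylow p G where
  toSubgroup := (sP F).map φ
  isPGroup' := sP_pgroup.map φ
  is_maximal' hS hP := le_antisymm (h.le_P hp hS hP) hP

theorem Hy.exists_P (h : Hy φ) (hp : p ≠ 2) (P : Sylow p G) : ∃ g, (sP F).map (cj g φ) = P := by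
  obtain ⟨g, hg⟩ := MulAction.exists_smul_eq G (h.syl hp) P
  exact ⟨g, by rw [← hg, cj, ← map_map]; rfl⟩

theorem Hy.eq_M (h : Hy φ) (hp : p ≠ 2) {M : Subgroup G} (hM : M ≤ (sP F).map φ)
    (hc : ∀ x ∈ M, ∀ y ∈ M, x * y = y * x) (hcard : Nat.card M = Nat.card F ^ 3) : (sM F).map φ = M := by
  have h1 : (M.comap φ).map φ = M := map_comap_eq_self (hM.trans (map_le_range _ _))
  have h2 : Nat.card (M.comap φ) = Nat.card F ^ 3 := by rw [← hcard, ← h1, card_map_of_injective h.inj, h1]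
  have h3 : M.comap φ ≤ sM F := le_sM (two_ne hp) (fun x hx => by
      obtain ⟨y, hy, e⟩ := hM hx; exact h.inj e ▸ hy) (fun x hx y hy => h.comm_iff.1 (hc _ hx _ hy))
    (h2 ▸ Nat.pow_lt_pow_right Finite.one_lt_card (by decide))
  rw [← h1, eq_of_le_of_card_ge h3 (by rw [h2, card_sM])]

theorem Hy.central (h : Hy φ) (hp : p ≠ 2) {P : Sylow p G} {x : G} (hx : x ∈ (P : Subgroup G))
    (hc : ∀ y ∈ (P : Subgroup G), y * x = x * y) : ∃ g a, x = cj g φ (pp a 0 0 0) := by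
  obtain ⟨g, hg⟩ := h.exists_P hp P
  rw [← hg] at hx hc
  obtain ⟨x, hx, rfl⟩ := hx
  obtain ⟨a, rfl⟩ := Hay.central (two_ne hp) (fun y hy => (h.conj g).comm_iff.1 (hc _ ⟨y, hy, rfl⟩)) hx
  exact ⟨g, a, rfl⟩

theorem exists_hy (hp : p ≠ 2) {x : Cfsg.PSp 2 F} (hx : x ≠ 1) {U : Sylow p (Cfsg.PSp 2 F)}
    (hxU : x ∈ (U : Subgroup _)) (hxc : ∀ u ∈ (U : Subgroup (Cfsg.PSp 2 F)), u * x = x * u) {α : G}
    (e : centralizer ({α} : Set G) ≃* centralizer ({x} : Set (Cfsg.PSp 2 F)))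
    (hb : ∀ z ∈ centralizer ({α} : Set G), z ≠ 1 → (∀ c ∈ centralizer ({α} : Set G), c * z = z * c) →
      centralizer ({z} : Set G) = centralizer ({α} : Set G)) :
    ∃ φ : Jac F →* G, Hy φ ∧ φ.range = centralizer {α} := by
  obtain ⟨g, a, rfl⟩ := (hy_std (two_ne hp)).central hp hxU hxc
  have H := (hy_std (F := F) (two_ne hp)).conj g
  have hr := H.cen_eq (a := a) (by rintro rfl; exact hx (map_one _))
  let ψ : Jac F →* centralizer {cj g stdF (pp a 0 0 0)} := (cj g stdF).codRestrict _ fun y => hr ▸ ⟨y, rfl⟩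
  have hψ : Function.Bijective ψ := ⟨fun y z e => H.inj (congrArg Subtype.val e), fun ⟨y, hy⟩ => by
    obtain ⟨z, rfl⟩ := hr ▸ hy; exact ⟨z, rfl⟩⟩
  let φ : Jac F →* G := (centralizer {α}).subtype.comp (e.symm.toMonoidHom.comp ψ)
  have hi : Function.Injective φ := Subtype.val_injective.comp (e.symm.injective.comp hψ.1)
  have hφ : φ.range = centralizer {α} := le_antisymm (by rintro _ ⟨y, rfl⟩; exact (e.symm _).2) fun y hy => by
    obtain ⟨z, hz⟩ := hψ.2 (e ⟨y, hy⟩); exact ⟨z, show ((e.symm (ψ z) : _) : G) = y by rw [hz, e.symm_apply_apply]⟩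
  refine ⟨φ, ⟨hi, fun b hb' k hk => ?_⟩, hφ⟩
  have := hb (φ (pp b 0 0 0)) (hφ ▸ ⟨_, rfl⟩) (fun e => hb' (pp_inj.1 (hi (e.trans (map_one φ).symm))).1)
    fun c hc => by obtain ⟨y, rfl⟩ := hφ ▸ hc; rw [← map_mul, ← map_mul, z_comm]
  exact show k ∈ φ.range from hφ ▸ this ▸ mem_centralizer_singleton_iff.2 hk

end

end CL.Hay
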