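/- Hayden's hypothesis: trivial intersections and fusion in `M`. -/
import Cfsg.Agent.REC.Hay.Hy

set_option autoImplicit false
set_option linter.unusedSimpArgs false
set_option linter.unusedSectionVars false

namespace CL.Hay

open Subgroup CL.ABG CL.R2 Jac
open scoped MatrixGroups Pointwise

variable {F : Type*} [Field F] {G : Type*} [Group G] {φ : Jac F →* G}

theorem sM_le : sM F ≤ sP F := fun _ ⟨a, b, d, e⟩ => ⟨a, b, 0, d, e⟩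
theorem sQ_le : sQ F ≤ sP F := fun _ ⟨a, b, c, e⟩ => ⟨a, b, c, 0, e⟩

/-- the involution of the Levi complement -/
def tt : Jac F := ⟨0, 0, 0, -1, 0, 0, -1, by ring⟩

theorem ι_neg_one : ι (-1 : SL(2, F)) = tt := by rw [neg_one_eq_mkS]; rfl
theorem tt_mul_tt : (tt * tt : Jac F) = 1 := by ext <;> simp [tt]
theorem tt_inv : (tt⁻¹ : Jac F) = tt := inv_eq_of_mul_eq_one_right tt_mul_tt
theorem tt_conj (a b c d : F) : tt * pp a b c d * tt⁻¹ = pp a (-b) (-c) d := by ext <;> simp [tt]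
theorem u_conj (c a b d : F) : pp 0 0 c 0 * pp a b 0 d * (pp 0 0 c 0)⁻¹ =
    pp (a - 2 * b * c + c * c * d) (b - c * d) 0 d := by ext <;> simp <;> ring
theorem dg_conj (l : Fˣ) (a b c d : F) : ι (dg l) * pp a b c d * (ι (dg l))⁻¹ =
    pp a (l * b) (l⁻¹ * c) (l * l * d) := by
  ext <;> simp [dg, ι_mkS]; field_simp

/-- `y` is conjugate to a nontrivial element of `Z` -/
def Cj (φ : Jac F →* G) (y : G) : Prop := ∃ g a, a ≠ 0 ∧ y = g * φ (pp a 0 0 0) * g⁻¹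

theorem Cj.conj {y : G} (h : Cj φ y) (k : G) : Cj φ (k * y * k⁻¹) := by
  obtain ⟨g, a, ha, rfl⟩ := h; exact ⟨k * g, a, ha, by group⟩

theorem Cj.jconj {x : Jac F} (h : Cj φ (φ x)) (k : Jac F) : Cj φ (φ (k * x * k⁻¹)) := by
  simpa only [map_mul, map_inv] using h.conj (φ k)

theorem cj_cj (g : G) {y : G} : Cj (cj g φ) y ↔ Cj φ y :=
  ⟨by rintro ⟨k, a, ha, rfl⟩; exact ⟨k * g, a, ha, by rw [cj_apply]; group⟩,
   by rintro ⟨k, a, ha, rfl⟩; exact ⟨k * g⁻¹, a, ha, by rw [cj_apply]; group⟩⟩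

theorem Hy.ti (h : Hy φ) {g : G} {a b : F} (ha : a ≠ 0) (e : g * φ (pp a 0 0 0) * g⁻¹ = φ (pp b 0 0 0)) :
    g ∈ normalizer (φ.range : Set G) := by
  have hb : b ≠ 0 := by rintro rfl; exact h.ne (by simp [ha]) (conj_eq_one_iff.1 (e.trans (map_one φ)))
  refine mem_normalizer_iff.2 fun x => ?_
  conv_lhs => rw [← h.cen_eq ha]
  rw [← h.cen_eq hb, ← e, mem_centralizer_singleton_iff, mem_centralizer_singleton_iff, conj_mul, conj_mul]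
  exact ((MulAut.conj g).injective.eq_iff).symm

theorem Hy.exists_aut (h : Hy φ) {g : G} (hg : g ∈ normalizer (φ.range : Set G)) :
    ∃ σ : MulAut (Jac F), ∀ x, g * φ x * g⁻¹ = φ (σ x) :=
  ⟨(MonoidHom.ofInjective h.inj).trans ((φ.range.normalizerMonoidHom ⟨g, hg⟩).trans
    (MonoidHom.ofInjective h.inj).symm), fun x => by
    simp only [MulEquiv.trans_apply, MonoidHom.apply_ofInjective_symm]; rfl⟩

theorem Hy.cen_M (h : Hy φ) (h2 : (2 : F) ≠ 0) {g : G} (hg : ∀ a b d, φ (pp a b 0 d) * g = g * φ (pp a b 0 d)) :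
    ∃ a b d, g = φ (pp a b 0 d) := by
  obtain ⟨x, rfl⟩ := h.cen 1 one_ne_zero g (hg ..).symm
  obtain ⟨a, b, d, rfl⟩ := cen_sM (x := x) (by rintro _ ⟨a, b, d, rfl⟩; exact h.comm_iff.1 (hg ..)) h2
  exact ⟨a, b, d, rfl⟩

theorem M_comm (a b d a' b' d' : F) : pp a b 0 d * pp a' b' 0 d' = pp a' b' 0 d' * pp a b 0 d := by
  simp [pp_mul, add_comm]

theorem center_jac (h2 : (2 : F) ≠ 0) {x : Jac F} (h : ∀ y, y * x = x * y) : ∃ a, pp a 0 0 0 = x := by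
  obtain ⟨a, b, d, rfl⟩ := cen_sM (fun y _ => h y) h2
  exact central h2 (fun y _ => h y) ⟨_, _, _, _, rfl⟩

theorem Hy.nz (h : Hy φ) (h2 : (2 : F) ≠ 0) {g : G} (hg : g ∈ normalizer (φ.range : Set G)) (a : F) :
    ∃ b, g * φ (pp a 0 0 0) * g⁻¹ = φ (pp b 0 0 0) := by
  obtain ⟨σ, hσ⟩ := h.exists_aut hg
  obtain ⟨b, e⟩ := center_jac h2 (x := σ (pp a 0 0 0)) fun y => by
    obtain ⟨y, rfl⟩ := σ.surjective y; rw [← map_mul, ← map_mul, z_comm]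
  exact ⟨b, by rw [hσ, e]⟩

theorem z_add (a b : F) : pp (a + b) 0 0 0 = pp a 0 0 0 * pp b 0 0 0 := by simp [pp_mul]

/-- an element of `N(Z) \ C(Z)` with square in `C(Z)` inverts `Z` -/
theorem Hy.inv_all (h : Hy φ) (h2 : (2 : F) ≠ 0) {u : G} (hu : u ∈ normalizer (φ.range : Set G))
    (hn : u ∉ φ.range) (hs : u * u ∈ φ.range) (a : F) : u * φ (pp a 0 0 0) * u⁻¹ = φ (pp (-a) 0 0 0) := by
  obtain ⟨b, e⟩ := h.nz h2 hu a
  obtain ⟨x, hx⟩ := hs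
  have e2 : u * φ (pp b 0 0 0) * u⁻¹ = φ (pp a 0 0 0) := by
    rw [← e, show ∀ y, u * (u * y * u⁻¹) * u⁻¹ = u * u * y * (u * u)⁻¹ from fun y => by group, ← hx, ← map_mul,
      z_comm, map_mul, mul_inv_cancel_right]
  by_contra h0
  refine hn (h.cen (a + b) (fun h1 => h0 (by rw [e, eq_neg_of_add_eq_zero_right h1])) u (eq_mul_of_mul_inv_eq ?_))
  rw [z_add, map_mul, ← conj_mul, e, e2, ← map_mul, ← map_mul, z_comm]

/-- a conjugate of `Z` meeting `M` lies in `M` -/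
theorem Hy.cj_le_M (h : Hy φ) (h2 : (2 : F) ≠ 0) {g : G} {e a b d : F} (he : e ≠ 0)
    (H : g * φ (pp e 0 0 0) * g⁻¹ = φ (pp a b 0 d)) (e' : F) :
    ∃ a' b' d', g * φ (pp e' 0 0 0) * g⁻¹ = φ (pp a' b' 0 d') := h.cen_M h2 fun a' b' d' => by
  obtain ⟨x, hx⟩ := (h.conj g).cen e he (φ (pp a' b' 0 d')) (by rw [cj_apply, H]; exact h.comm_iff.2 (M_comm ..))
  exact hx ▸ (h.conj g).comm_iff.2 (z_comm e' x)

theorem exists_conj_Q (h2 : (2 : F) ≠ 0) {a b c : F} (h : ¬ (b = 0 ∧ c = 0)) :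
    ∃ k : Jac F, k * pp a b c 0 * k⁻¹ = pp 0 1 0 0 := by
  obtain ⟨k, hk⟩ : ∃ k : Jac F, k * pp a b c 0 * k⁻¹ = pp a 1 0 0 := by
    by_cases hb : b = 0
    · have hc : c ≠ 0 := fun e => h ⟨hb, e⟩
      exact ⟨⟨0, 0, 0, 0, c⁻¹, -c, 0, by field_simp; ring⟩, by ext <;> simp [hb, hc]⟩
    · exact ⟨⟨0, 0, 0, b⁻¹, 0, -c, b, by field_simp; ring⟩, by ext <;> simp [hb] <;> ring⟩
  refine ⟨pp 0 0 (a / 2) 0 * k, ?_⟩
  rw [show ∀ x y z : Jac F, x * y * z * (x * y)⁻¹ = x * (y * z * y⁻¹) * x⁻¹ from fun x y z => by group, hk, u_conj]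
  congr 1 <;> field_simp <;> ring

/-- not all nontrivial elements of `Z` are conjugate -/
def NC (φ : Jac F →* G) : Prop := ∃ a b, a ≠ 0 ∧ b ≠ 0 ∧ ¬ IsConj (φ (pp a 0 0 0)) (φ (pp b 0 0 0))

theorem NC.conj (h : NC φ) (g : G) : NC (cj g φ) := by
  obtain ⟨a, b, ha, hb, h⟩ := h
  exact ⟨a, b, ha, hb, fun e => h ((isConj_iff.2 ⟨g, rfl⟩).trans (e.trans (isConj_iff.2 ⟨g, rfl⟩).symm))⟩

theorem NC.not_all (h : NC φ) {y : G} (H : ∀ a ≠ 0, IsConj (φ (pp a 0 0 0)) y) : False := by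
  obtain ⟨a, b, ha, hb, h⟩ := h; exact h ((H a ha).trans (H b hb).symm)

theorem Hy.not_cj_Q (h : Hy φ) (h2 : (2 : F) ≠ 0) (hn : NC φ) {a b c : F} (H : Cj φ (φ (pp a b c 0))) :
    b = 0 ∧ c = 0 := by
  by_contra h0
  obtain ⟨k, hk⟩ := exists_conj_Q h2 (a := a) h0
  obtain ⟨g, e, he, H⟩ := hk ▸ H.jconj k
  have z2 : ∀ u : F, u = -u → u = 0 := fun u hu => mul_left_cancel₀ h2 (by linear_combination hu)
  have ht : ∀ a b d : F, φ tt * φ (pp a b 0 d) * (φ tt)⁻¹ = φ (pp a (-b) 0 d) := fun a b d => by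
    rw [← map_mul, ← map_inv, ← map_mul, tt_conj, neg_zero]
  have h1 : φ tt * cj g φ (pp e 0 0 0) * (φ tt)⁻¹ = cj g φ (pp (-e) 0 0 0) := by
    rw [show pp (-e) 0 0 0 = (pp e 0 0 0)⁻¹ by simp [pp_inv], map_inv, cj_apply, ← H, ht, ← map_inv]; simp [pp_inv]
  refine hn.not_all (y := φ (pp 0 1 0 0)) fun a ha => ?_
  obtain ⟨a', b', d', H'⟩ := h.cj_le_M h2 he H.symm a
  have h3 := (h.conj g).inv_all h2 ((h.conj g).ti he h1) (by
    rintro ⟨x, hx⟩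
    rw [← hx, ← map_mul, z_comm, map_mul, mul_inv_cancel_right] at h1
    exact he (z2 _ (pp_inj.1 ((h.conj g).inj h1)).1)) ⟨1, by rw [← map_mul, tt_mul_tt, map_one, map_one]⟩ a
  rw [show pp (-a) 0 0 0 = (pp a 0 0 0)⁻¹ by simp [pp_inv], map_inv, cj_apply, H', ht, ← map_inv, pp_inv] at h3
  obtain ⟨h4, -, -, h5⟩ := pp_inj.1 (h.inj h3)
  obtain rfl := z2 _ h4
  obtain rfl := z2 _ h5
  have hb : b' ≠ 0 := by rintro rfl; exact h.ne (by simp [ha]) (conj_eq_one_iff.1 (H'.trans (map_one φ)))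
  refine (isConj_iff.2 ⟨g, H'⟩).trans (φ.map_isConj (isConj_iff.2 ⟨ι (dg (Units.mk0 b' hb)⁻¹), ?_⟩))
  simp [dg_conj, hb]

variable {p : ℕ} [Fact p.Prime] [CharP F p] [Finite F]

theorem aut_Q (hp : p ≠ 2) (σ : MulAut (Jac F)) (a b c : F) : ∃ a' b' c', σ (pp a b c 0) = pp a' b' c' 0 := by
  have hN : ((sQ F).map σ.toMonoidHom).Normal := Normal.map inferInstance _ σ.surjective
  have hP : (sQ F).map σ.toMonoidHom ≤ sP F := le_sup_left.trans (le_sP hp (IsPGroup.to_sup_of_normal_left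
    ((sP_pgroup.to_le sQ_le).map _) sP_pgroup) one_ne_zero (x := pp 0 0 0 1)
    (mem_sup_right ⟨_, _, _, _, rfl⟩) rfl)
  have hx : σ (pp a b c 0) ∈ (sQ F).map σ.toMonoidHom := ⟨_, ⟨a, b, c, rfl⟩, rfl⟩
  have h1 := (mem_sP.1 (hP (hN.conj_mem _ hx ⟨0, 0, 0, 0, 1, -1, 0, by ring⟩))).2.1
  obtain ⟨a', b', c', d', e⟩ := hP hx
  rw [← e] at h1 ⊢
  exact ⟨a', b', c', by rw [show d' = 0 by simpa using h1]⟩

theorem Hy.nq (h : Hy φ) (hp : p ≠ 2) {g : G} (hg : g ∈ normalizer (φ.range : Set G)) (a b c : F) :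
    ∃ a' b' c', g * φ (pp a b c 0) * g⁻¹ = φ (pp a' b' c' 0) := by
  obtain ⟨σ, hσ⟩ := h.exists_aut hg
  obtain ⟨a', b', c', e⟩ := aut_Q hp σ a b c
  exact ⟨a', b', c', by rw [hσ, e]⟩

/-- the subgroup `M` -/
abbrev gM (φ : Jac F →* G) : Subgroup G := (sM F).map φ

theorem mem_gM {y : G} : y ∈ gM φ ↔ ∃ a b d, y = φ (pp a b 0 d) :=
  ⟨by rintro ⟨_, ⟨a, b, d, rfl⟩, rfl⟩; exact ⟨a, b, d, rfl⟩, by rintro ⟨a, b, d, rfl⟩; exact ⟨_, ⟨a, b, d, rfl⟩, rfl⟩⟩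

theorem gM_comm : ∀ x ∈ gM φ, ∀ y ∈ gM φ, x * y = y * x := by
  simp only [mem_gM]; rintro _ ⟨a, b, d, rfl⟩ _ ⟨a', b', d', rfl⟩; rw [← map_mul, M_comm, map_mul]

theorem gM_pgroup : IsPGroup p (gM φ) := (sP_pgroup.to_le sM_le).map _

theorem Hy.card_gM (h : Hy φ) : Nat.card (gM φ) = Nat.card F ^ 3 := by rw [card_map_of_injective h.inj, card_sM]

theorem gM_cj (g : G) : gM (cj g φ) = MulAut.conj g • gM φ := by rw [gM, cj, ← map_map]; rfl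

variable [Finite G]

theorem Hy.M_unique (h : Hy φ) (hp : p ≠ 2) {g : G} {S : Subgroup G} (hS : IsPGroup p S) (h1 : gM φ ≤ S)
    (h2 : gM (cj g φ) ≤ S) : g ∈ normalizer (gM φ : Set G) := by
  obtain ⟨P, hP⟩ := hS.exists_le_sylow
  obtain ⟨k, hk⟩ := h.exists_P hp P
  rw [← hk] at hP
  exact conjAct_pointwise_smul_iff.1 (show MulAut.conj g • gM φ = gM φ by
    rw [← gM_cj, ← (h.conj k).eq_M hp (h1.trans hP) gM_comm h.card_gM,
      ← (h.conj k).eq_M hp (h2.trans hP) gM_comm (h.conj g).card_gM])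

/-- `N(M)` controls fusion of subsets of `M` -/
theorem Hy.fuse (h : Hy φ) (hp : p ≠ 2) {g : G} {A : Set G} (hA : ∀ y ∈ A, y ∈ gM φ)
    (hg : ∀ y ∈ A, g * y * g⁻¹ ∈ gM φ) : ∃ n ∈ normalizer (gM φ : Set G), ∀ y ∈ A, n * y * n⁻¹ = g * y * g⁻¹ := by
  let D := centralizer ((fun y => g * y * g⁻¹) '' A)
  have h1 : gM φ ≤ D := fun m hm => by rintro _ ⟨y, hy, rfl⟩; exact gM_comm _ (hg y hy) _ hm
  have h2 : gM (cj g φ) ≤ D := by
    rintro _ ⟨x, hx, rfl⟩ _ ⟨y, hy, rfl⟩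
    rw [cj_apply, conj_mul, conj_mul, gM_comm _ (hA y hy) _ ⟨x, hx, rfl⟩]
  obtain ⟨P, hP⟩ := ((gM_pgroup (p := p) (φ := φ)).comap_subtype (K := D)).exists_le_sylow
  obtain ⟨Q, hQ⟩ := ((gM_pgroup (p := p) (φ := cj g φ)).comap_subtype (K := D)).exists_le_sylow
  obtain ⟨c, rfl⟩ := MulAction.exists_smul_eq D Q P
  refine ⟨c * g, h.M_unique hp ((c • Q).2.map D.subtype) (fun m hm => ⟨⟨m, h1 hm⟩, hP hm, rfl⟩) ?_, fun y hy => ?_⟩
  · rintro _ ⟨x, hx, rfl⟩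
    exact ⟨_, smul_mem_pointwise_smul ⟨_, h2 ⟨x, hx, rfl⟩⟩ (MulAut.conj c) _ (hQ ⟨x, hx, rfl⟩), by simp; group⟩
  · calc _ = c * (g * y * g⁻¹) * (c : G)⁻¹ := by group
      _ = _ := by rw [← c.2 _ ⟨y, hy, rfl⟩, mul_inv_cancel_right]

end CL.Hay
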