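/- Hayden's hypothesis: the conjugates of `Z` in `M`. -/
import Cfsg.Agent.REC.Hay.Bas

set_option autoImplicit false
set_option linter.unusedSimpArgs false
set_option linter.unusedSectionVars false
set_option linter.unnecessarySeqFocus false

namespace CL.Hay

open Subgroup CL.ABG CL.R2 Jac
open scoped MatrixGroups Pointwise

variable {F : Type*} [Field F] {G : Type*} [Group G] {φ : Jac F →* G}

theorem sq_or_neg [Fintype F] (h : Fintype.card F % 4 = 3) (x : F) : IsSquare x ∨ IsSquare (-x) := by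
  classical
  have h1 : quadraticChar F (-1) = -1 :=
    quadraticChar_neg_one_iff_not_isSquare.2 fun e => FiniteField.isSquare_neg_one_iff.1 e h
  refine or_iff_not_imp_left.2 fun hx => ?_
  have h0 : x ≠ 0 := by rintro rfl; exact hx IsSquare.zero
  refine (quadraticChar_one_iff_isSquare (neg_ne_zero.2 h0)).1 ?_
  rw [← neg_one_mul, map_mul, h1, quadraticChar_neg_one_iff_not_isSquare.2 hx]; rfl

theorem invol_conj (h2 : (2 : F) ≠ 0) {x : Jac F} (h : x * x = 1) (h1 : x ≠ 1) :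
    ∃ b c, x = pp 0 b c 0 * tt * (pp 0 b c 0)⁻¹ := by
  obtain ⟨a, b, c, p, q, r, s, hx⟩ := x
  simp only [Jac.ext_iff, mul_a, mul_b, mul_c, mul_p, mul_q, mul_r, mul_s, one_a, one_b, one_c, one_p, one_q,
    one_r, one_s] at h
  obtain ⟨e1, e2, e3, e4, e5, e6, e7⟩ := h
  have h3 : p + s ≠ 0 := fun e => h2 (by linear_combination p * e - e4 - hx)
  obtain rfl : q = 0 := mul_left_cancel₀ h3 (by linear_combination e5)
  obtain rfl : r = 0 := mul_left_cancel₀ h3 (by linear_combination e6)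
  obtain rfl : s = p := by linear_combination p * hx - s * e4
  obtain rfl : a = 0 := mul_left_cancel₀ h2 (by linear_combination e1)
  rcases mul_self_eq_one_iff.1 (show s * s = 1 by linear_combination e4) with rfl | rfl
  · obtain rfl : b = 0 := mul_left_cancel₀ h2 (by linear_combination e2)
    obtain rfl : c = 0 := mul_left_cancel₀ h2 (by linear_combination e3)
    exact (h1 rfl).elim
  · exact ⟨b / 2, c / 2, by ext <;> simp [tt] <;> field_simp <;> ring⟩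

theorem pr_invol (h2 : (2 : F) ≠ 0) {x : Jac F} (h : x * x = 1) (h1 : x ≠ 1) : pr x = -1 := by
  obtain ⟨b, c, rfl⟩ := invol_conj h2 h h1
  rw [map_mul, map_mul, map_inv, ← ι_neg_one, pr_ι, mul_neg_one, neg_mul, mul_inv_cancel]

theorem tt_ne (h2 : (2 : F) ≠ 0) : (tt : Jac F) ≠ 1 := fun e => h2 (by
  have := congrArg Jac.p e; simp only [tt, one_p] at this; linear_combination -this)

theorem eq_pp_of_pr {x : Jac F} (h : pr x = 1) : x = pp x.a x.b x.c 0 := by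
  conv_lhs => rw [eq_pp_ι x, h, map_one, mul_one]

theorem Hy.ne_of_cj (h : Hy φ) {y : G} (H : Cj φ y) : y ≠ 1 := by
  obtain ⟨g, a, ha, rfl⟩ := H; exact fun e => h.ne (by simp [ha]) (conj_eq_one_iff.1 e)

variable {p : ℕ} [Fact p.Prime] [CharP F p] [Finite F]

theorem Hy.not_cj_b (h : Hy φ) (hp : p ≠ 2) (hn : NC φ) {a b d : F} (H : Cj φ (φ (pp a 0 0 d))) (hb : b ≠ 0) :
    ¬ Cj φ (φ (pp a b 0 d)) := fun H' => by
  have h2 : (2 : F) ≠ 0 := two_ne hp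
  obtain ⟨g, e, he, H⟩ := H
  have h' := h.conj g
  obtain ⟨τ, hτ⟩ := h'.cen e he (φ tt) (by rw [cj_apply, ← H]; exact h.comm_iff.2 (by ext <;> simp [tt]))
  obtain ⟨v, hv⟩ := h'.cen e he (φ (pp 0 b 0 0)) (by rw [cj_apply, ← H]; exact h.comm_iff.2 (M_comm ..))
  have h1 : τ * v * τ⁻¹ = v⁻¹ := h'.inj (by
    rw [map_mul, map_mul, map_inv, map_inv, hτ, hv, ← map_inv, ← map_mul, ← map_mul, tt_conj, ← map_inv, pp_inv]; simp)
  have h3 : pr τ = -1 := pr_invol h2 (h'.inj (by rw [map_mul, hτ, ← map_mul, tt_mul_tt, map_one, map_one]))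
    (by rintro rfl; exact tt_ne h2 (h.inj (by rw [← hτ, map_one, map_one])))
  have h4 : pr v = 1 := eq_one_of_sq_odd (odd_of_pow hp (k := 3) (by
      rw [← map_pow, h'.inj (show cj g φ (v ^ p ^ 3) = cj g φ 1 by rw [map_pow, hv, ← map_pow, pp_pow_pow, map_one,
        map_one]), map_one])) (by
    have := congrArg pr h1
    rw [map_mul, map_mul, map_inv, map_inv, h3, inv_neg, inv_one, neg_one_mul, mul_neg_one, neg_neg] at this
    exact mul_eq_one_iff_eq_inv.2 this)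
  have h5 : φ (pp a b 0 d) = cj g φ (pp (e + v.a) v.b v.c 0) := by
    rw [show pp a b 0 d = pp a 0 0 d * pp 0 b 0 0 by simp [pp_mul], map_mul, H, ← hv, ← cj_apply, ← map_mul,
      eq_pp_of_pr h4]; simp [pp_mul]
  obtain ⟨e1, e2⟩ := h'.not_cj_Q h2 (hn.conj g) ((cj_cj g).2 (h5 ▸ H'))
  have h8 : v = pp v.a 0 0 0 := (eq_pp_of_pr h4).trans (by rw [e1, e2])
  have h6 : v = v⁻¹ := by rw [← h1, h8, z_comm, mul_inv_cancel_right]
  have h7 := congrArg (cj g φ) h6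
  rw [map_inv, hv, ← map_inv, pp_inv] at h7
  exact hb (mul_left_cancel₀ h2 (by linear_combination (pp_inj.1 (h.inj h7)).2.1))

theorem Hy.uniq (h : Hy φ) (hp : p ≠ 2) (hn : NC φ) (hs : ∀ x : F, IsSquare x ∨ IsSquare (-x)) {a a' d : F}
    (hd : d ≠ 0) (H : Cj φ (φ (pp a 0 0 d))) (H' : Cj φ (φ (pp a' 0 0 d))) : a = a' := by
  have key : ∀ {a a' : F}, Cj φ (φ (pp a 0 0 d)) → Cj φ (φ (pp a' 0 0 d)) → IsSquare ((a' - a) * d) → a = a' := by
    rintro a a' H H' ⟨b, hb⟩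
    by_contra h0
    refine h.not_cj_b hp hn H' (b := b) (by rintro rfl; exact h0 (sub_eq_zero.1 ((mul_eq_zero.1 (hb.trans
      (mul_zero 0))).resolve_right hd)).symm) ?_
    have := H.jconj (pp 0 0 (-b / d) 0)
    rwa [u_conj, show a - 2 * 0 * (-b / d) + -b / d * (-b / d) * d = a' by field_simp; linear_combination -hb,
      show 0 - -b / d * d = b by field_simp; ring] at this
  rcases hs ((a' - a) * d) with e | e
  · exact key H H' e
  · exact (key H' H (by rwa [← neg_sub, neg_mul])).symm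

/-- a second conjugate of `Z` in `C_M(t)` -/
structure Op (φ : Jac F →* G) (f : F → F) (n : G) : Prop where
  nM : n ∈ normalizer (gM φ : Set G)
  w : ∀ d, d ≠ 0 → ∃ a, a ≠ 0 ∧ n * φ (pp a 0 0 0) * n⁻¹ = φ (pp (f d) 0 0 d)
  w' : ∀ a, a ≠ 0 → ∃ d, d ≠ 0 ∧ n * φ (pp a 0 0 0) * n⁻¹ = φ (pp (f d) 0 0 d)

theorem Hy.exists_op [Finite G] (h : Hy φ) (hp : p ≠ 2) (hn : NC φ) {a b d : F}
    (H : Cj φ (φ (pp a b 0 d))) (h0 : ¬ (b = 0 ∧ d = 0)) : ∃ f n, Op φ f n := by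
  have h2 : (2 : F) ≠ 0 := two_ne hp
  have hd : d ≠ 0 := by rintro rfl; exact h0 ⟨(h.not_cj_Q h2 hn H).1, rfl⟩
  have H1 := H.jconj (pp 0 0 (b / d) 0)
  rw [u_conj, div_mul_cancel₀ _ hd, sub_self] at H1
  obtain ⟨g, e, he, H⟩ := H1
  obtain ⟨n, hn, hg⟩ := h.fuse hp (g := g) (A := {y | ∃ a, φ (pp a 0 0 0) = y})
    (by rintro _ ⟨a, rfl⟩; exact mem_gM.2 ⟨_, _, _, rfl⟩)
    (by rintro _ ⟨a, rfl⟩; exact mem_gM.2 (h.cj_le_M h2 he H.symm a))
  rw [← hg _ ⟨e, rfl⟩] at H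
  obtain ⟨τ, hτ⟩ := (h.conj n).cen e he (φ tt) (by rw [cj_apply, ← H]; exact h.comm_iff.2 (by ext <;> simp [tt]))
  have h3 : ∀ e', ∃ a' d', n * φ (pp e' 0 0 0) * n⁻¹ = φ (pp a' 0 0 d') := fun e' => by
    obtain ⟨a', b', d', e1⟩ := h.cj_le_M h2 he H.symm e'
    have := (h.conj n).comm_iff.2 (z_comm e' τ)
    rw [hτ, cj_apply, e1, h.comm_iff, ← mul_inv_eq_iff_eq_mul, tt_conj, pp_inj] at this
    obtain rfl : b' = 0 := mul_left_cancel₀ h2 (by linear_combination -this.2.1)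
    exact ⟨a', d', e1⟩
  choose α δ h3 using h3
  have h4 : ∀ x, δ x = 0 → x = 0 := fun x hx => by
    by_contra h5
    obtain ⟨y, hy⟩ := h.nz h2 (h.ti h5 (hx ▸ h3 x)) e
    exact hd (pp_inj.1 (h.inj (H.trans hy))).2.2.2
  have h5 : Function.Injective δ := fun x y hxy => sub_eq_zero.1 (h4 _ (by
    have := h3 (x - y + y)
    rw [z_add, map_mul, ← conj_mul, h3, h3, ← map_mul, pp_mul, sub_add_cancel] at this
    linear_combination (pp_inj.1 (h.inj this)).2.2.2 + hxy))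
  have h6 : δ 0 = 0 := by
    have := h3 0; rw [pp_zero, map_one, mul_one, mul_inv_cancel, ← map_one φ] at this
    exact (pp_inj.1 (h.inj this)).2.2.2.symm
  let σ := Equiv.ofBijective δ ⟨h5, Finite.surjective_of_injective h5⟩
  refine ⟨fun d => α (σ.symm d), n, hn, fun d hd => ⟨σ.symm d, fun e => hd ?_, ?_⟩, fun a ha =>
    ⟨σ a, mt (h4 a) ha, by rw [σ.symm_apply_apply]; exact h3 a⟩⟩
  · rw [← σ.apply_symm_apply d, e]; exact h6
  · rw [h3]; exact congrArg (fun x => φ (pp _ 0 0 x)) (σ.apply_symm_apply d)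

variable {f : F → F} {n : G}

theorem Op.cj (o : Op φ f n) {d : F} (hd : d ≠ 0) : Cj φ (φ (pp (f d) 0 0 d)) := by
  obtain ⟨a, ha, e⟩ := o.w d hd; exact ⟨n, a, ha, e.symm⟩

/-- the elements of the conjugates of `Z` in `M` -/
def EE (f : F → F) : Option F → F → Jac F
  | none, d => pp d 0 0 0
  | some c, d => pp (f d + c * c * d) (-c * d) 0 d

theorem EE_zero (d : F) : EE f (some 0) d = pp (f d) 0 0 d := by simp [EE]

theorem EE_inj {ω ω' : Option F} {d d' : F} (hd : d ≠ 0) (hd' : d' ≠ 0) (e : EE f ω d = EE f ω' d') :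
    ω = ω' ∧ d = d' := by
  rcases ω with _ | c <;> rcases ω' with _ | c' <;> simp only [EE, pp_inj] at e
  · exact ⟨rfl, e.1⟩
  · exact (hd' e.2.2.2.symm).elim
  · exact (hd e.2.2.2).elim
  · obtain ⟨-, e, -, rfl⟩ := e; exact ⟨congrArg _ (neg_injective (mul_right_cancel₀ hd e)), rfl⟩

theorem EE_mem (ω : Option F) (d : F) : φ (EE f ω d) ∈ gM φ := by cases ω <;> exact mem_gM.2 ⟨_, _, _, rfl⟩

theorem u_EE (c c' d : F) : pp 0 0 c 0 * EE f (some c') d * (pp 0 0 c 0)⁻¹ = EE f (some (c + c')) d := by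
  rw [EE, u_conj, EE]; congr 1 <;> ring

/-- conjugating elements -/
def xx (φ : Jac F →* G) (n : G) : Option F → G
  | none => 1
  | some c => φ (pp 0 0 c 0) * n

theorem Op.E (o : Op φ f n) (ω : Option F) {d : F} (hd : d ≠ 0) :
    ∃ a, a ≠ 0 ∧ xx φ n ω * φ (pp a 0 0 0) * (xx φ n ω)⁻¹ = φ (EE f ω d) := by
  rcases ω with _ | c
  · exact ⟨d, hd, by simp [xx, EE]⟩
  · obtain ⟨a, ha, e⟩ := o.w d hd
    exact ⟨a, ha, by rw [← add_zero c, ← u_EE, EE_zero, map_mul, map_mul, ← e, map_inv, add_zero, xx]; group⟩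

theorem Op.E' (o : Op φ f n) (ω : Option F) {a : F} (ha : a ≠ 0) :
    ∃ d, d ≠ 0 ∧ xx φ n ω * φ (pp a 0 0 0) * (xx φ n ω)⁻¹ = φ (EE f ω d) := by
  rcases ω with _ | c
  · exact ⟨a, ha, by simp [xx, EE]⟩
  · obtain ⟨d, hd, e⟩ := o.w' a ha
    exact ⟨d, hd, by rw [← add_zero c, ← u_EE, EE_zero, map_mul, map_mul, ← e, map_inv, add_zero, xx]; group⟩

section
variable (h : Hy φ) (hp : p ≠ 2) (hn : NC φ) (hs : ∀ x : F, IsSquare x ∨ IsSquare (-x)) (o : Op φ f n)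
include h hp hn hs o

theorem Op.f_sq (l : Fˣ) {d : F} (hd : d ≠ 0) : f (l * l * d) = f d := by
  have := (o.cj hd).jconj (ι (dg l))
  rw [dg_conj, mul_zero, mul_zero] at this
  have h0 : (l : F) * l * d ≠ 0 := by simp [hd]
  exact h.uniq hp hn hs h0 (o.cj h0) this

theorem Op.dg_EE (l : Fˣ) (c : F) {d : F} (hd : d ≠ 0) :
    ι (dg l) * EE f (some c) d * (ι (dg l))⁻¹ = EE f (some (l⁻¹ * c)) (l * l * d) := by
  rw [EE, dg_conj, EE, o.f_sq h hp hn hs l hd]; congr 1 <;> simp <;> field_simp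

theorem Op.cls {y : G} (hy : y ∈ gM φ) (H : Cj φ y) : ∃ ω d, d ≠ 0 ∧ y = φ (EE f ω d) := by
  obtain ⟨a, b, d, rfl⟩ := mem_gM.1 hy
  by_cases hd : d = 0
  · subst hd
    obtain rfl := (h.not_cj_Q (two_ne hp) hn H).1
    exact ⟨none, a, by rintro rfl; exact h.ne_of_cj H (map_one φ), rfl⟩
  have H1 := H.jconj (pp 0 0 (b / d) 0)
  rw [u_conj, div_mul_cancel₀ _ hd, sub_self] at H1
  refine ⟨some (-b / d), d, hd, ?_⟩
  rw [EE, h.uniq hp hn hs hd (o.cj hd) H1]; congr 2 <;> field_simp <;> ring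

theorem Op.exists_rho : ∃ ρ : normalizer (gM φ : Set G) →* Equiv.Perm (Option F), ∀ g ω d, d ≠ 0 →
    ∃ d', d' ≠ 0 ∧ g.1 * φ (EE f ω d) * g.1⁻¹ = φ (EE f (ρ g ω) d') := by
  have ex : ∀ (g : normalizer (gM φ : Set G)) ω, ∃ ω', ∀ d, d ≠ 0 →
      ∃ d', d' ≠ 0 ∧ g.1 * φ (EE f ω d) * g.1⁻¹ = φ (EE f ω' d') := fun g ω => by
    obtain ⟨a, ha, e⟩ := o.E ω one_ne_zero
    obtain ⟨ω', d1, hd1, e1⟩ := o.cls h hp hn hs ((mem_normalizer_iff.1 g.2 _).1 (EE_mem (f := f) ω 1))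
      (Cj.conj ⟨_, a, ha, e.symm⟩ g.1)
    obtain ⟨a1, -, e2⟩ := o.E ω' hd1
    have h3 := h.ti (g := (xx φ n ω')⁻¹ * g * xx φ n ω) (b := a1) ha (by
      rw [← e, ← e2] at e1
      calc _ = (xx φ n ω')⁻¹ * (g.1 * (xx φ n ω * φ (pp a 0 0 0) * (xx φ n ω)⁻¹) * g.1⁻¹) * xx φ n ω' := by group
        _ = _ := by rw [e1]; group)
    refine ⟨ω', fun d hd => ?_⟩
    obtain ⟨b, hb, e3⟩ := o.E ω hd
    obtain ⟨b', e4⟩ := h.nz (two_ne hp) h3 b
    obtain ⟨d', hd', e5⟩ := o.E' ω' (a := b') (by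
      rintro rfl; exact h.ne (by simp [hb]) (conj_eq_one_iff.1 (e4.trans (map_one φ))))
    exact ⟨d', hd', by rw [← e5, ← e4, ← e3]; group⟩
  choose act spec using ex
  let : MulAction (normalizer (gM φ : Set G)) (Option F) :=
    { smul := act
      one_smul := fun ω => by
        obtain ⟨d, hd, e⟩ := spec 1 ω 1 one_ne_zero
        exact (EE_inj (ω' := act 1 ω) one_ne_zero hd (h.inj (by simpa using e))).1.symm
      mul_smul := fun g k ω => by
        obtain ⟨d, hd, e⟩ := spec k ω 1 one_ne_zero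
        obtain ⟨d1, hd1, e1⟩ := spec g (act k ω) d hd
        obtain ⟨d2, hd2, e2⟩ := spec (g * k) ω 1 one_ne_zero
        exact (EE_inj (f := f) (ω := act (g * k) ω) (ω' := act g (act k ω)) hd2 hd1
          (h.inj (by rw [← e1, ← e, ← e2, coe_mul]; group))).1 }
  exact ⟨MulAction.toPermHom _ _, spec⟩

theorem Op.scal {g : G} {d : F} (hd : d ≠ 0) (e : g * φ (pp (f 1) 0 0 1) * g⁻¹ = φ (pp (f d) 0 0 d)) :
    ∃ l : Fˣ, ∀ x, x ≠ 0 → g * φ (pp (f x) 0 0 x) * g⁻¹ = φ (pp (f (l * l * x)) 0 0 (l * l * x)) := by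
  have hl : ∀ (l : Fˣ) x, x ≠ 0 → φ (ι (dg l)) * φ (pp (f x) 0 0 x) * (φ (ι (dg l)))⁻¹ =
      φ (pp (f (l * l * x)) 0 0 (l * l * x)) := fun l x hx => by
    rw [← map_inv, ← map_mul, ← map_mul, dg_conj, o.f_sq h hp hn hs l hx, mul_zero, mul_zero]
  have h1 : ∀ x ε : F, x ≠ 0 → ε * ε = 1 → IsSquare (ε * x) → ∃ l : Fˣ, x = l * l * ε := by
    rintro x ε hx hε ⟨r, hr⟩
    have h0 : r ≠ 0 := by rintro rfl; exact hx (by linear_combination ε * hr - x * hε)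
    exact ⟨Units.mk0 r h0, by simp only [Units.val_mk0]; linear_combination ε * hr - x * hε⟩
  rcases hs d with hq | hq
  · obtain ⟨l, rfl⟩ := h1 d 1 hd (mul_one 1) (by rwa [one_mul])
    refine ⟨l, fun x hx => ?_⟩
    obtain ⟨a, ha, e1⟩ := o.w 1 one_ne_zero
    obtain ⟨b, -, e2⟩ := o.w x hx
    obtain ⟨y, hy⟩ := (h.conj n).cen a ha ((φ (ι (dg l)))⁻¹ * g) (by
      rw [cj_apply, e1, ← mul_inv_eq_iff_eq_mul]
      calc _ = (φ (ι (dg l)))⁻¹ * (g * φ (pp (f 1) 0 0 1) * g⁻¹) * φ (ι (dg l)) := by group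
        _ = _ := by rw [e, ← hl l 1 one_ne_zero]; group)
    have := (h.conj n).comm_iff.2 (z_comm b y)
    rw [hy, cj_apply, e2] at this
    rw [← hl l x hx]
    calc _ = φ (ι (dg l)) * ((φ (ι (dg l)))⁻¹ * g * φ (pp (f x) 0 0 x)) * g⁻¹ := by group
      _ = _ := by rw [this]; group
  · obtain ⟨l, rfl⟩ := h1 d (-1) hd (by ring) (by rwa [neg_one_mul])
    refine (hn.not_all (y := φ (pp (f 1) 0 0 1)) fun a ha => ?_).elim
    obtain ⟨x, hx, e1⟩ := o.w' a ha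
    refine (isConj_iff.2 ⟨n, e1⟩).trans (IsConj.symm ?_)
    rcases hs x with hq | hq
    · obtain ⟨m, rfl⟩ := h1 x 1 hx (mul_one 1) (by rwa [one_mul])
      exact isConj_iff.2 ⟨_, hl m 1 one_ne_zero⟩
    · obtain ⟨m, rfl⟩ := h1 x (-1) hx (by ring) (by rwa [neg_one_mul])
      exact (isConj_iff.2 ⟨g, e⟩).trans ((isConj_iff.2 ⟨_, hl l (-1) (by simp)⟩).symm.trans
        (isConj_iff.2 ⟨_, hl m (-1) (by simp)⟩))

end

end CL.Hay
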