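/- Splitting a complement as (permutation group) × (abelian group) by transfer. -/
import Mathlib

set_option autoImplicit false

namespace CL.Hay

open Subgroup

theorem split_prod {N α S : Type*} [Group N] [Finite N] [Finite α] [CommGroup S] [Finite S]
    (ρ : N →* Equiv.Perm α) (ω : α) (ϕ : (MulAction.stabilizer (Equiv.Perm α) ω).comap ρ →* S)
    {M H : Subgroup N} [M.Normal] (hH : IsComplement' M H) (hM : ∀ m ∈ M, ρ m = 1)
    (hϕ : ∀ k, ρ k.1 = 1 → (ϕ k = 1 ↔ k.1 ∈ M)) (hs : ∀ s, ∃ k, ρ k.1 = 1 ∧ ϕ k = s)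
    (h2 : ∀ a b c d : α, a ≠ b → c ≠ d → ∃ g, ρ g a = c ∧ ρ g b = d) (h3 : ∀ a b : α, ∃ c, c ≠ a ∧ c ≠ b)
    (hc : (Nat.card S).Coprime (Nat.card α)) : Nonempty (H ≃* ρ.range × S) := by
  have mem : ∀ {g : N}, g ∈ (MulAction.stabilizer (Equiv.Perm α) ω).comap ρ ↔ ρ g ω = ω := Iff.rfl
  have tr : ∀ a b : α, ∃ g, ρ g a = b := fun a b => by
    obtain ⟨c, hc, -⟩ := h3 a a
    obtain ⟨d, hd, -⟩ := h3 b b
    exact (h2 a c b d hc.symm hd.symm).imp fun _ => And.left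
  have cj : ∀ g k, ρ k = 1 → ρ (g * k * g⁻¹) = 1 := fun g k hk => by simp [hk]
  have c0 : ∀ g, ρ g ω = ω → ∀ k, ρ k = 1 → g * k * g⁻¹ * k⁻¹ ∈ M := fun g hg k hk => by
    have := (hϕ (⟨g, mem.2 hg⟩ * ⟨k, mem.2 (by simp [hk])⟩ * ⟨g, mem.2 hg⟩⁻¹ * ⟨k, mem.2 (by simp [hk])⟩⁻¹)
      (by simp [hk])).1 (by rw [map_mul, map_mul, map_mul, map_inv, map_inv, mul_inv_cancel_comm, mul_inv_cancel])
    exact this
  have c1 : ∀ a g, ρ g a = a → ∀ k, ρ k = 1 → g * k * g⁻¹ * k⁻¹ ∈ M := fun a g hg k hk => by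
    obtain ⟨y, rfl⟩ := tr a ω
    have := ‹M.Normal›.conj_mem _ (c0 (y * g * y⁻¹) (by simp [hg]) _ (cj y k hk)) y⁻¹
    convert this using 1; group
  have c2 : ∀ g k, ρ k = 1 → g * k * g⁻¹ * k⁻¹ ∈ M := fun g k hk => by
    obtain ⟨c, h1, h4⟩ := h3 ω (ρ g ω)
    obtain ⟨s, h5, h6⟩ := h2 c ω c _ h1 h4
    have := M.mul_mem (‹M.Normal›.conj_mem _ (c1 ω (s⁻¹ * g) (by simp [← h6]) k hk) s) (c1 c s h5 k hk)
    convert this using 1; group
  have dec : ∀ g : N, ∃ m ∈ M, ∃ y : H, g = m * y := fun g => by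
    obtain ⟨⟨m, y⟩, e⟩ := hH.2 g; exact ⟨m, m.2, y, e.symm⟩
  have triv : ∀ y : H, y.1 ∈ M → y = 1 := fun y hy => Subtype.ext (disjoint_def.1 hH.disjoint hy y.2)
  let T := ((MulAction.stabilizer (Equiv.Perm α) ω).comap ρ).subgroupOf H
  let ϕ' : T →* S := ϕ.comp ((H.subtype.comp T.subtype).codRestrict _ fun x => x.2)
  have hi : T.index = Nat.card α := by
    let _ := MulAction.compHom α (ρ.comp H.subtype)
    have : MulAction.IsPretransitive H α := ⟨fun a b => by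
      obtain ⟨g, hg⟩ := tr a b
      obtain ⟨m, hm, y, rfl⟩ := dec g
      exact ⟨y, show ρ y a = b by simpa [hM m hm] using hg⟩⟩
    exact MulAction.index_stabilizer_of_transitive H ω
  have hV : ∀ (k : H) (hk : ρ k = 1), MonoidHom.transfer ϕ' k = ϕ ⟨k, mem.2 (by simp [hk])⟩ ^ Nat.card α :=
    fun k hk => by
    rw [MonoidHom.transfer_eq_pow ϕ' k fun j g _ => by
      rw [← mul_inv_eq_one]
      exact triv _ (by simpa using c2 g.1⁻¹ (k.1 ^ j) (by simp [hk])), ← map_pow, ← hi]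
    rfl
  have hp := (powCoprime hc).bijective
  refine ⟨MulEquiv.ofBijective ((ρ.rangeRestrict.comp H.subtype).prod (MonoidHom.transfer ϕ'))
    ⟨(injective_iff_map_eq_one _).2 fun k hk => ?_, ?_⟩⟩
  · have h1 : ρ k = 1 := congrArg (fun x => x.1.1) hk
    exact triv _ ((hϕ _ h1).1 (hp.1 (((hV k h1).symm.trans (congrArg Prod.snd hk)).trans (one_pow _).symm)))
  · rintro ⟨⟨_, g, rfl⟩, s⟩
    obtain ⟨m, hm, y, rfl⟩ := dec g
    obtain ⟨s', hs'⟩ := hp.2 (s * (MonoidHom.transfer ϕ' y)⁻¹)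
    obtain ⟨⟨k, hk0⟩, hk, rfl⟩ := hs s'
    obtain ⟨m', hm', k, rfl⟩ := dec k
    have h1 : ρ k = 1 := by simpa [hM m' hm'] using hk
    refine ⟨k * y, Prod.ext (Subtype.ext (by simp [h1, hM m hm])) ?_⟩
    have h4 : ϕ ⟨m' * k, hk0⟩ = ϕ ⟨k, mem.2 (by simp [h1])⟩ := by
      rw [show (⟨m' * k, hk0⟩ : (MulAction.stabilizer (Equiv.Perm α) ω).comap ρ) =
        ⟨m', mem.2 (by simp [hM m' hm'])⟩ * ⟨k, mem.2 (by simp [h1])⟩ from rfl, map_mul,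
        (hϕ ⟨m', _⟩ (hM m' hm')).2 hm', one_mul]
    rw [powCoprime_apply, h4] at hs'
    simp [hV k h1, hs']

end CL.Hay
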