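/- Hayden's hypothesis: the action of `N(M)` on the conjugates of `Z` in `M`. -/
import Cfsg.Agent.REC.Hay.Opn
import Cfsg.Agent.REC.Hay.Spl
import Cfsg.Agent.S0730
import Cfsg.Agent.S0051

set_option autoImplicit false
set_option linter.unusedSimpArgs false
set_option linter.unusedSectionVars false
set_option linter.unnecessarySeqFocus false

namespace CL.Hay

open Subgroup CL.ABG CL.R2 Jac
open scoped MatrixGroups Pointwise

attribute [-simp] Subgroup.coe_map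

variable {F : Type*} [Field F] [Finite F] {G : Type*} [Group G] [Finite G] {φ : Jac F →* G}

theorem mem_NM {g : G} (H : ∀ a b d, ∃ a' b' d', g * φ (pp a b 0 d) * g⁻¹ = φ (pp a' b' 0 d')) :
    g ∈ normalizer (gM φ : Set G) :=
  mem_normalizer_fintype fun y hy => by obtain ⟨a, b, d, rfl⟩ := mem_gM.1 hy; exact mem_gM.2 (H a b d)

theorem φ_conj (k x : Jac F) : φ k * φ x * (φ k)⁻¹ = φ (k * x * k⁻¹) := by rw [map_mul, map_mul, map_inv]

theorem borel_NM {x : Jac F} (hx : x.r = 0) : φ x ∈ normalizer (gM φ : Set G) := mem_NM fun a b d => by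
  have h := x.h
  obtain ⟨a', b', d', e⟩ : x * pp a b 0 d * x⁻¹ ∈ sM F := mem_sM.2 (by
    refine ⟨?_, ?_, ?_, ?_⟩ <;> simp [hx] <;> rw [hx] at h
    · linear_combination -x.c * h
    all_goals linear_combination h)
  exact ⟨a', b', d', by rw [φ_conj, e]⟩

/-- the action on the conjugates of `Z` in `M` -/
structure Rho (φ : Jac F →* G) (p : ℕ) (f : F → F) (n : G)
    (ρ : normalizer (gM φ : Set G) →* Equiv.Perm (Option F)) : Prop where
  h : Hy φ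
  hp : p ≠ 2
  hn : NC φ
  hs : ∀ x : F, IsSquare x ∨ IsSquare (-x)
  o : Op φ f n
  spec : ∀ g ω d, d ≠ 0 → ∃ d', d' ≠ 0 ∧ g.1 * φ (EE f ω d) * g.1⁻¹ = φ (EE f (ρ g ω) d')

namespace Rho

variable {p : ℕ} [Fact p.Prime] [CharP F p] {f : F → F} {n : G}
  {ρ : normalizer (gM φ : Set G) →* Equiv.Perm (Option F)} (R : Rho φ p f n ρ)
include R

theorem eq {g : normalizer (gM φ : Set G)} {ω ω' : Option F} {d d' : F} (hd : d ≠ 0) (hd' : d' ≠ 0)
    (e : g.1 * φ (EE f ω d) * g.1⁻¹ = φ (EE f ω' d')) : ρ g ω = ω' := by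
  obtain ⟨d1, h1, e1⟩ := R.spec g ω d hd
  exact (EE_inj h1 hd' (R.h.inj (e1.symm.trans e))).1

theorem fix_none {g : normalizer (gM φ : Set G)} {x : Jac F} (e : φ x = g) : ρ g none = none :=
  R.eq one_ne_zero one_ne_zero (by rw [← e, φ_conj, EE, z_comm, mul_inv_cancel_right])

theorem tr (c : F) : ∃ g, (∃ x, φ x = g.1) ∧ ∀ c', ρ g (some c') = some (c + c') :=
  ⟨⟨φ (pp 0 0 c 0), borel_NM rfl⟩, ⟨_, rfl⟩, fun _ => R.eq one_ne_zero one_ne_zero (by rw [φ_conj, u_EE])⟩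

theorem sc (l : Fˣ) (c : F) : ρ ⟨φ (ι (dg l)), borel_NM rfl⟩ (some c) = some (l⁻¹ * c) :=
  R.eq one_ne_zero (d' := l * l * 1) (by simp) (by rw [φ_conj, R.o.dg_EE R.h R.hp R.hn R.hs l c one_ne_zero])

theorem of_M {g : normalizer (gM φ : Set G)} (hg : g.1 ∈ gM φ) : ρ g = 1 := Equiv.ext fun _ =>
  R.eq one_ne_zero one_ne_zero (by rw [gM_comm _ hg _ (EE_mem _ _), mul_inv_cancel_right]; rfl)

theorem n_none : ρ ⟨n, R.o.nM⟩ none = some 0 := by
  obtain ⟨d, hd, e⟩ := R.o.w' 1 one_ne_zero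
  exact R.eq one_ne_zero hd (by rw [EE_zero]; exact e)

theorem std3 {a b c : Option F} (hab : a ≠ b) (hac : a ≠ c) (hbc : b ≠ c) :
    ∃ g, ρ g a = none ∧ ρ g b = some 0 ∧ ρ g c = some 1 := by
  obtain ⟨g, hg⟩ : ∃ g, ρ g a = none := by
    rcases a with _ | a
    · exact ⟨1, by simp⟩
    · obtain ⟨g, -, hg⟩ := R.tr (-a)
      exact ⟨(⟨n, R.o.nM⟩ : normalizer (gM φ : Set G))⁻¹ * g, by simp [hg, ← R.n_none]⟩
  obtain ⟨b', hb⟩ := Option.ne_none_iff_exists'.1 (hg ▸ (ρ g).injective.ne hab.symm)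
  obtain ⟨c', hc⟩ := Option.ne_none_iff_exists'.1 (hg ▸ (ρ g).injective.ne hac.symm)
  obtain ⟨k, ⟨x, hx⟩, hk⟩ := R.tr (-b')
  have h0 : -b' + c' ≠ 0 := fun e => (ρ g).injective.ne hbc (by rw [hb, hc, neg_add_eq_zero.1 e])
  exact ⟨⟨φ (ι (dg (Units.mk0 _ h0))), borel_NM rfl⟩ * k * g,
    by simp only [map_mul, Equiv.Perm.mul_apply, hg, R.fix_none hx]; exact R.fix_none rfl,
    by simp [hb, hk, R.sc], by simp [hc, hk, R.sc, h0]⟩

theorem scal {g : normalizer (gM φ : Set G)} (hg : ρ g (some 0) = some 0) : ∃ l : Fˣ, ∀ x, x ≠ 0 →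
    g.1 * φ (pp (f x) 0 0 x) * g.1⁻¹ = φ (pp (f (l * l * x)) 0 0 (l * l * x)) := by
  obtain ⟨d, hd, e⟩ := R.spec g (some 0) 1 one_ne_zero
  rw [hg, EE_zero, EE_zero] at e
  exact R.o.scal R.h R.hp R.hn R.hs hd e

theorem sharp {g : normalizer (gM φ : Set G)} (h1 : ρ g none = none) (h2 : ρ g (some 0) = some 0)
    (h3 : ρ g (some 1) = some 1) : ρ g = 1 := by
  obtain ⟨d, -, e⟩ := R.spec g none 1 one_ne_zero
  rw [h1] at e
  have hN := R.h.ti one_ne_zero e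
  obtain ⟨l, hl⟩ := R.scal h2
  have hβ : ∀ b, ∃ a' b', g.1 * φ (pp 0 b 0 0) * g.1⁻¹ = φ (pp a' b' 0 0) := fun b => by
    obtain ⟨a', b', c', e⟩ := R.h.nq R.hp hN 0 b 0
    obtain ⟨a1, b1, d1, e1⟩ := mem_gM.1 ((mem_normalizer_iff.1 g.2 _).1 (mem_gM.2 ⟨0, b, 0, rfl⟩))
    exact ⟨a', b', by rw [e, (pp_inj.1 (R.h.inj (e.symm.trans e1))).2.2.1]⟩
  choose α β hβ using hβ
  have key : ∀ c d, d ≠ 0 → ∃ c', ρ g (some c) = some c' ∧ β (-c * d) = -c' * (l * l * d) := fun c d hd => by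
    obtain ⟨d', hd', e⟩ := R.spec g (some c) d hd
    obtain ⟨a', e1⟩ := R.h.nz (two_ne R.hp) hN (c * c * d)
    rw [show EE f (some c) d = pp (c * c * d) 0 0 0 * pp 0 (-c * d) 0 0 * pp (f d) 0 0 d by
      simp [EE, pp_mul, add_comm], map_mul, map_mul, ← conj_mul, ← conj_mul, e1, hβ, hl d hd, ← map_mul,
      ← map_mul] at e
    obtain ⟨c', hc⟩ := Option.ne_none_iff_exists'.1 (h1 ▸ (ρ g).injective.ne (Option.some_ne_none c))
    rw [hc] at e
    have := R.h.inj e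
    simp only [EE, pp_mul, pp_inj] at this
    exact ⟨c', hc, by linear_combination this.2.1 + c' * this.2.2.2⟩
  ext1 ω
  rcases ω with _ | c
  · exact h1
  by_cases hc : c = 0
  · rw [hc]; exact h2
  obtain ⟨c1, e1, e2⟩ := key 1 c hc
  obtain ⟨c2, e3, e4⟩ := key c 1 one_ne_zero
  obtain rfl := Option.some_injective _ (h3.symm.trans e1)
  rw [e3, mul_left_cancel₀ (mul_ne_zero l.ne_zero l.ne_zero) (show l * l * c2 = l * l * c by
    rw [mul_one, ← neg_one_mul, e2] at e4; linear_combination e4)]; rfl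

theorem ker_C {g : normalizer (gM φ : Set G)} (hg : ρ g = 1) {x : Jac F} (hx : φ x = g) : g.1 ∈ gM φ := by
  obtain ⟨d, hd, e⟩ := R.spec g (some 0) 1 one_ne_zero
  obtain ⟨d', hd', e'⟩ := R.spec g (some 1) 1 one_ne_zero
  rw [hg, ← hx, φ_conj, R.h.inj.eq_iff, mul_inv_eq_iff_eq_mul, Jac.ext_iff] at e e'
  simp [EE, hd, hd'] at e e'
  have h := x.h
  obtain ⟨-, e1, e2, -⟩ := e
  obtain ⟨-, e3, -, e4, -⟩ := e'
  have h2 : x.p = 1 := by linear_combination e4 + x.s * e3 + d' * x.s * e1 + h + x.q * e2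
  exact hx ▸ ⟨x, mem_sM.2 ⟨e1, h2, e2, by linear_combination h - x.s * h2 + x.q * e2⟩, rfl⟩

theorem exists_char : ∃ ϕ : (MulAction.stabilizer (Equiv.Perm (Option F)) (some (0 : F))).comap ρ →*
    (powMonoidHom 2 : Fˣ →* Fˣ).range, (∀ k, ρ k.1 = 1 → (ϕ k = 1 ↔ k.1.1 ∈ gM φ)) ∧ ∀ s, ∃ k, ρ k.1 = 1 ∧ ϕ k = s := by
  choose l hl using fun k : (MulAction.stabilizer (Equiv.Perm (Option F)) (some (0 : F))).comap ρ => R.scal (g := k.1) k.2
  have un : ∀ (k : (MulAction.stabilizer (Equiv.Perm (Option F)) (some (0 : F))).comap ρ) (x : F),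
      k.1.1 * φ (pp (f 1) 0 0 1) * k.1.1⁻¹ = φ (pp (f x) 0 0 x) → x = l k * l k := fun k x e => by
    rw [hl k 1 one_ne_zero, mul_one] at e; exact (pp_inj.1 (R.h.inj e)).2.2.2.symm
  refine ⟨MonoidHom.mk' (fun k => ⟨l k * l k, l k, (powMonoidHom_apply ..).trans (sq _)⟩) fun g k => Subtype.ext (Units.ext (un _ _ ?_).symm),
    fun k hk => ⟨fun e => ?_, fun e => Subtype.ext (Units.ext (un _ _ ?_).symm)⟩, ?_⟩
  · rw [coe_mul, coe_mul, show ∀ a b c : G, a * b * c * (a * b)⁻¹ = a * (b * c * b⁻¹) * a⁻¹ from fun a b c => by group,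
      hl k 1 one_ne_zero, hl g _ (by simp)]; simp
  · have e1 := hl k 1 one_ne_zero
    rw [show (l k : F) * l k = 1 from congrArg (fun x => (x.1 : F)) e, one_mul] at e1
    obtain ⟨a, ha, e2⟩ := R.o.w 1 one_ne_zero
    obtain ⟨x, hx⟩ := R.h.cen a ha (n⁻¹ * k.1.1 * n) (by
      rw [← e2] at e1
      calc _ = n⁻¹ * (k.1.1 * (n * φ (pp a 0 0 0) * n⁻¹) * k.1.1⁻¹) * k.1.1 * n := by group
        _ = _ := by rw [e1]; group)
    have := (mem_normalizer_iff.1 R.o.nM _).1 (R.ker_C (g := (⟨n, R.o.nM⟩ : normalizer (gM φ : Set G))⁻¹ * k.1 *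
      ⟨n, R.o.nM⟩) (by simp [hk]) hx)
    simpa [mul_assoc] using this
  · rw [gM_comm _ e _ (mem_gM.2 ⟨_, _, _, rfl⟩), mul_inv_cancel_right]; rfl
  rintro ⟨_, m, rfl⟩
  obtain ⟨g, h1, h2, h3⟩ := R.std3 (a := some 0) (b := none) (c := some 1) (by simp) (by simp) (by simp)
  let y : normalizer (gM φ : Set G) := ⟨φ (ι (dg m)), borel_NM rfl⟩
  have y0 : ρ y (some 0) = some 0 := by rw [R.sc, mul_zero]
  have i1 : (ρ g)⁻¹ none = some 0 := Equiv.Perm.inv_eq_iff_eq.2 h1.symm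
  have i2 : (ρ g)⁻¹ (some 0) = none := Equiv.Perm.inv_eq_iff_eq.2 h2.symm
  have z1 : ρ (g * y * g⁻¹) none = none := by simp only [map_mul, map_inv, Equiv.Perm.mul_apply, i1, y0, h1]
  have z2 : ρ (g * y * g⁻¹) (some 0) = some 0 := by
    simp only [map_mul, map_inv, Equiv.Perm.mul_apply, i2, R.fix_none (g := y) rfl, h2]
  obtain ⟨c, hc⟩ := Option.ne_none_iff_exists'.1 (z1 ▸ (ρ (g * y * g⁻¹)).injective.ne (Option.some_ne_none 1))
  have h0 : c ≠ 0 := by rintro rfl; simpa using (ρ (g * y * g⁻¹)).injective (hc.trans z2.symm)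
  let y' : normalizer (gM φ : Set G) := ⟨φ (ι (dg (Units.mk0 c h0))), borel_NM rfl⟩
  have z3 : ρ (y' * (g * y * g⁻¹)) = 1 := R.sharp (by rw [map_mul, Equiv.Perm.mul_apply, z1]; exact R.fix_none rfl)
    (by rw [map_mul, Equiv.Perm.mul_apply, z2, R.sc, mul_zero]) (by
      rw [map_mul, Equiv.Perm.mul_apply, hc, R.sc]; simp [h0])
  have z4 : ρ (g⁻¹ * y' * g * y) = 1 := by
    rw [show g⁻¹ * y' * g * y = g⁻¹ * (y' * (g * y * g⁻¹)) * g by group, map_mul, map_mul, z3]; simp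
  refine ⟨⟨g⁻¹ * y' * g * y, show ρ _ _ = _ by rw [z4]; rfl⟩, z4, Subtype.ext (Units.ext (un _ _ ?_).symm)⟩
  obtain ⟨d, -, e⟩ := R.spec g (some 0) (m * m * 1) (by simp)
  have e1 := R.o.dg_EE R.h R.hp R.hn R.hs m 0 one_ne_zero
  rw [mul_zero, EE_zero] at e1
  rw [h1, show EE f none d = pp d 0 0 0 from rfl] at e
  calc _ = g.1⁻¹ * y'.1 * (g.1 * (y.1 * φ (pp (f 1) 0 0 1) * y.1⁻¹) * g.1⁻¹) * y'.1⁻¹ * g.1 := by
        simp only [coe_mul, coe_inv]; group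
    _ = g.1⁻¹ * (g.1 * φ (EE f (some 0) (m * m * 1)) * g.1⁻¹) * g.1 := by
        rw [φ_conj, e1, e, mul_assoc g.1⁻¹, mul_assoc g.1⁻¹, φ_conj, z_comm, mul_inv_cancel_right]
    _ = _ := by simp [EE_zero, mul_assoc, sq]

theorem pgl [Fintype F] {k : ℕ} (hk : Odd k) (hF : Fintype.card F = p ^ k) :
    Nonempty (ρ.range ≃* Matrix.ProjGenLinGroup (Fin 2) F) := by
  classical
  have st : ∀ x : Fin 3 ↪ Option F, ∃ g, ρ g (x 0) = none ∧ ρ g (x 1) = some 0 ∧ ρ g (x 2) = some 1 := fun x =>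
    R.std3 (x.injective.ne (by decide)) (x.injective.ne (by decide)) (x.injective.ne (by decide))
  obtain ⟨K, _, _, hK, ⟨e⟩⟩ := Cfsg.Agent.S0730.result (Fact.out : p.Prime) R.hp hk (by simp [hF]) ρ.range
    ⟨fun x y => by
      obtain ⟨g, h1, h2, h3⟩ := st x
      obtain ⟨g', h4, h5, h6⟩ := st y
      refine ⟨⟨_, g'⁻¹ * g, rfl⟩, Function.Embedding.ext fun i => show ρ (g'⁻¹ * g) (x i) = y i from ?_⟩
      rw [map_mul, map_inv, Equiv.Perm.mul_apply, Equiv.Perm.inv_eq_iff_eq]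
      fin_cases i
      exacts [h1.trans h4.symm, h2.trans h5.symm, h3.trans h6.symm]⟩
    fun x => (eq_bot_iff_forall _).2 (by
      rintro ⟨_, k, rfl⟩ hk
      have hk : ∀ i, ρ k (x i) = x i := fun i => DFunLike.congr_fun (show _ = x from hk) i
      obtain ⟨g, h1, h2, h3⟩ := st x
      have := R.sharp (g := g * k * g⁻¹) (by simp [← h1, hk]) (by simp [← h2, hk]) (by simp [← h3, hk])
      rw [map_mul, map_mul, map_inv, conj_eq_one_iff] at this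
      exact Subtype.ext this)
  let σ := FiniteField.ringEquivOfCardEq (hK.trans hF.symm)
  exact ⟨e.trans (MonoidHom.toMulEquiv (Matrix.ProjGenLinGroup.map (σ : K →+* F))
    (Matrix.ProjGenLinGroup.map (σ.symm : F →+* K)) (by rw [← Matrix.ProjGenLinGroup.map_comp]; simp)
    (by rw [← Matrix.ProjGenLinGroup.map_comp]; simp))⟩

end Rho

variable {p : ℕ} [Fact p.Prime] [CharP F p]

theorem Hy.norm_P (h : Hy φ) (hp : p ≠ 2) {g : G} (h1 : g ∈ normalizer (gM φ : Set G))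
    (h2 : g ∈ normalizer (φ.range : Set G)) : g ∈ normalizer ((sP F).map φ : Set G) :=
  mem_normalizer_fintype (by
    rintro _ ⟨_, ⟨a, b, c, d, rfl⟩, rfl⟩
    obtain ⟨a1, b1, c1, e1⟩ := h.nq hp h2 a b c
    obtain ⟨a2, b2, d2, e2⟩ := mem_gM.1 ((mem_normalizer_iff.1 h1 _).1 (mem_gM.2 ⟨0, 0, d, rfl⟩))
    rw [show pp a b c d = pp a b c 0 * pp 0 0 0 d by simp [pp_mul], map_mul, ← conj_mul, e1, e2]
    exact mul_mem ⟨_, ⟨_, _, _, _, rfl⟩, rfl⟩ ⟨_, ⟨_, _, _, _, rfl⟩, rfl⟩)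

theorem P_le_NM : (sP F).map φ ≤ normalizer (gM φ : Set G) := by
  rintro _ ⟨_, ⟨a, b, c, d, rfl⟩, rfl⟩; exact borel_NM rfl

theorem Hy.op_of_not (h : Hy φ) (hp : p ≠ 2) (hn : NC φ) {g : G} (h1 : g ∈ normalizer (gM φ : Set G))
    (h2 : g ∉ normalizer (φ.range : Set G)) : ∃ f n, Op φ f n := by
  obtain ⟨a, b, d, e⟩ := mem_gM.1 ((mem_normalizer_iff.1 h1 _).1 (mem_gM.2 ⟨1, 0, 0, rfl⟩))
  exact h.exists_op hp hn ⟨g, 1, one_ne_zero, e.symm⟩ (by rintro ⟨rfl, rfl⟩; exact h2 (h.ti one_ne_zero e))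

theorem Hy.nc (h : Hy φ) (hp : p ≠ 2) {u v : G} {U V : Sylow p G} (u1 : u ≠ 1) (v1 : v ≠ 1)
    (hu : u ∈ (U : Subgroup G)) (hu' : ∀ y ∈ (U : Subgroup G), y * u = u * y) (hv : v ∈ (V : Subgroup G))
    (hv' : ∀ y ∈ (V : Subgroup G), y * v = v * y) (H : ¬ IsConj u v) : NC φ := by
  obtain ⟨g, a, rfl⟩ := h.central hp hu hu'
  obtain ⟨k, b, rfl⟩ := h.central hp hv hv'
  exact ⟨a, b, by rintro rfl; exact u1 (map_one _), by rintro rfl; exact v1 (map_one _),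
    fun e => H ((isConj_iff.2 ⟨g, rfl⟩).symm.trans (e.trans (isConj_iff.2 ⟨k, rfl⟩)))⟩

theorem Hy.complement [Fintype F] (h : Hy φ) (hp : p ≠ 2) (hn : NC φ) {k : ℕ} (hF : Fintype.card F = p ^ k)
    (h4 : p ^ k % 4 = 3) (hnc : ∃ Q R : Sylow p (normalizer (gM φ : Set G)), Q ≠ R) :
    ∃ J : Subgroup G, J ≤ normalizer (gM φ : Set G) ∧ gM φ ⊔ J = normalizer (gM φ : Set G) ∧ gM φ ⊓ J = ⊥ ∧
      Nonempty (J ≃* Matrix.ProjGenLinGroup (Fin 2) F × Multiplicative (ZMod ((p ^ k - 1) / 2))) := by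
  classical
  have hk : Odd k := Nat.not_even_iff_odd.1 (by
    rintro ⟨j, rfl⟩
    rw [← two_mul, pow_mul', Nat.pow_mod] at h4
    have : p ^ j % 4 < 4 := Nat.mod_lt _ (by decide)
    generalize p ^ j % 4 = r at h4 this
    interval_cases r <;> simp at h4)
  let U := (h.syl hp).subtype (P_le_NM (φ := φ))
  obtain ⟨f, n, o⟩ : ∃ f n, Op φ f n := by
    by_contra h0
    obtain ⟨Q, R, hQR⟩ := hnc
    have : (U : Subgroup (normalizer (gM φ : Set G))).Normal := ⟨fun x hx g => (mem_normalizer_iff.1 (h.norm_P hp g.2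
      (by_contra fun e => h0 (h.op_of_not hp hn g.2 e))) x.1).1 hx⟩
    have := Sylow.unique_of_normal U this
    exact hQR (Subsingleton.elim _ _)
  have hs := sq_or_neg (F := F) (hF ▸ h4)
  obtain ⟨ρ, hρ⟩ := o.exists_rho h hp hn hs
  have R : Rho φ p f n ρ := ⟨h, hp, hn, hs, o, hρ⟩
  obtain ⟨ϕ, h1, h2⟩ := R.exists_char
  let A : Subgroup (Jac F) :=
    { carrier := {x | ∃ c, pp 0 0 c 0 = x}
      mul_mem' := by rintro _ _ ⟨a, rfl⟩ ⟨b, rfl⟩; exact ⟨a + b, by simp [pp_mul]⟩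
      one_mem' := ⟨0, rfl⟩
      inv_mem' := by rintro _ ⟨a, rfl⟩; exact ⟨-a, by simp [pp_inv]⟩ }
  have hA : (A.map φ).subgroupOf (normalizer (gM φ : Set G)) ≤ U := by
    rintro x ⟨_, ⟨c, rfl⟩, e⟩; exact ⟨_, ⟨_, _, _, _, rfl⟩, e⟩
  have hM : (gM φ).subgroupOf (normalizer (gM φ : Set G)) ≤ U := fun x hx => map_mono sM_le hx
  have : IsMulCommutative ((gM φ).subgroupOf (normalizer (gM φ : Set G))) :=
    ⟨⟨fun x y => Subtype.ext (Subtype.ext (gM_comm _ x.2 _ y.2))⟩⟩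
  obtain ⟨H, hH⟩ := Cfsg.Agent.S0051.result _ _ hM (by
      obtain ⟨j, hj⟩ := IsPGroup.iff_card.1 (U.2.to_le hM)
      exact hj ▸ Nat.Coprime.pow_left _ ((Nat.Prime.coprime_iff_not_dvd Fact.out).2 U.not_dvd_index)) _ hA
    ((eq_bot_iff_forall _).2 (by
      rintro x ⟨⟨_, ⟨c, rfl⟩, e⟩, hx⟩
      obtain ⟨a, b, d, e'⟩ := mem_gM.1 hx
      obtain rfl : c = 0 := (pp_inj.1 (h.inj (e.trans e'))).2.2.1
      exact Subtype.ext (e.symm.trans (map_one φ))))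
    (le_antisymm (sup_le hM hA) (by
      rintro ⟨x, hx⟩ ⟨_, ⟨a, b, c, d, rfl⟩, rfl⟩
      have := mul_mem_sup (S := (gM φ).subgroupOf (normalizer (gM φ : Set G))) (T := (A.map φ).subgroupOf _)
        (x := ⟨φ (pp (a - (b - d * c) * c) (b - d * c) 0 d), borel_NM rfl⟩) (y := ⟨φ (pp 0 0 c 0), borel_NM rfl⟩)
        (mem_gM.2 ⟨_, _, _, rfl⟩) ⟨_, ⟨c, rfl⟩, rfl⟩
      convert this using 1
      exact Subtype.ext (by simp [← map_mul, pp_mul])))
  have hS : Nat.card (powMonoidHom 2 : Fˣ →* Fˣ).range = (p ^ k - 1) / 2 := by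
    rw [IsCyclic.card_powMonoidHom_range, Nat.card_units, Nat.card_eq_fintype_card, hF,
      Nat.gcd_eq_right (by omega)]
  have h3 : ∀ a b : Option F, ∃ c, c ≠ a ∧ c ≠ b := fun a b => by
    by_contra! h0
    have e : ∀ x y z : Option F, x ≠ y → x ≠ z → y ≠ z → False := fun x y z h1 h2 h3 => by
      by_cases hx : x = a
      · exact h3 ((h0 y (hx ▸ h1.symm)).trans (h0 z (hx ▸ h2.symm)).symm)
      by_cases hy : y = a
      · exact h2 ((h0 x hx).trans (h0 z (hy ▸ h3.symm)).symm)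
      · exact h1 ((h0 x hx).trans (h0 y hy).symm)
    exact e none (some 0) (some 1) (by simp) (by simp) (by simp)
  obtain ⟨e⟩ := split_prod ρ (some 0) ϕ hH (fun m hm => R.of_M hm) h1 h2 (fun a b c d hab hcd => by
      obtain ⟨x, hx, hx'⟩ := h3 a b
      obtain ⟨y, hy, hy'⟩ := h3 c d
      obtain ⟨g, e1, e2, -⟩ := R.std3 hab hx.symm hx'.symm
      obtain ⟨g', e3, e4, -⟩ := R.std3 hcd hy.symm hy'.symm
      exact ⟨g'⁻¹ * g, by simp [e1, ← e3], by simp [e2, ← e4]⟩) h3 (by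
    rw [hS, Nat.card_eq_fintype_card, Fintype.card_option, hF]
    obtain ⟨j, hj⟩ : ∃ j, p ^ k = 4 * j + 3 := ⟨p ^ k / 4, by omega⟩
    rw [hj, show (4 * j + 3 - 1) / 2 = 2 * j + 1 by omega, show 4 * j + 3 + 1 = 2 + (2 * j + 1) * 2 by ring,
      Nat.coprime_add_mul_left_right]
    exact (Nat.coprime_two_right.2 (odd_two_mul_add_one j)))
  obtain ⟨e1⟩ := R.pgl hk hF
  have e2 := zmodCyclicMulEquiv (G := (powMonoidHom 2 : Fˣ →* Fˣ).range) inferInstance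
  rw [hS] at e2
  refine ⟨H.map (normalizer (gM φ : Set G)).subtype, map_subtype_le _, ?_, ?_,
    ⟨(H.equivMapOfInjective _ Subtype.val_injective).symm.trans (e.trans (e1.prodCongr e2.symm))⟩⟩
  · have := congrArg (map (normalizer (gM φ : Set G)).subtype) hH.sup_eq_top
    rwa [Subgroup.map_sup, subgroupOf_map_subtype, inf_eq_left.2 le_normalizer, ← MonoidHom.range_eq_map, range_subtype] at this
  · refine (eq_bot_iff_forall _).2 ?_
    rintro _ ⟨hx, x, hx', rfl⟩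
    exact congrArg Subtype.val (disjoint_def.1 hH.disjoint hx hx')

end CL.Hay
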